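import Cfsg.Agent.ThreeTransposition.M22Count.PointStab
import Cfsg.Agent.S0283

/-!
In a hermitian space of dimension six over the field with four elements the group generated by the transvections
orthogonal to an isotropic `a` acts on the complement of a pair through the special unitary group in dimension four.
-/

set_option autoImplicit false
set_option linter.unusedSectionVars false
set_option linter.style.haveILetI false

namespace Cfsg.Lib.ThreeTr

open Cfsg Subgroup Cfsg.Lib.Classical Cfsg.Lib.TTUnitary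

universe u v w

variable {F : Type u} [Field F] {V : Type v} [AddCommGroup V] [Module F V] {H : HermSpace F V}

/-- An isometry of spaces carries one special isometry group to the other. -/
theorem exists_sisom_equiv {V' : Type w} [AddCommGroup V'] [Module F V'] {H' : HermSpace F V'} (e : V ≃ₗ[F] V')
    (he : ∀ x y, H'.h (e x) (e y) = H.h x y) : Nonempty (H.SIsom ≃* H'.SIsom) := by
  have hiff : ∀ (g : V ≃ₗ[F] V), (∀ x y, H.h (g x) (g y) = H.h x y) →
      ∀ x y, H'.h ((e.symm.trans (g.trans e)) x) ((e.symm.trans (g.trans e)) y) = H'.h x y := fun g hg x y => by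
    simp only [LinearEquiv.trans_apply]
    rw [he, hg, ← he, e.apply_symm_apply, e.apply_symm_apply]
  have hiff' : ∀ (g : V' ≃ₗ[F] V'), (∀ x y, H'.h (g x) (g y) = H'.h x y) →
      ∀ x y, H.h ((e.trans (g.trans e.symm)) x) ((e.trans (g.trans e.symm)) y) = H.h x y := fun g hg x y => by
    simp only [LinearEquiv.trans_apply]
    rw [← he, e.apply_symm_apply, e.apply_symm_apply, hg, he]
  have hdet : ∀ (g : V ≃ₗ[F] V), LinearEquiv.det (e.symm.trans (g.trans e)) = LinearEquiv.det g := fun g =>
    Units.ext (by rw [LinearEquiv.coe_det, LinearEquiv.coe_det]; exact LinearMap.det_conj _ e)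
  refine ⟨
    { toFun := fun g => ⟨⟨e.symm.trans (g.1.1.trans e), hiff g.1.1 g.1.2⟩, ?_⟩
      invFun := fun g => ⟨⟨e.trans (g.1.1.trans e.symm), hiff' g.1.1 g.1.2⟩, ?_⟩
      left_inv := fun g => H.sisom_ext fun x => by simp
      right_inv := fun g => H'.sisom_ext fun x => by simp
      map_mul' := fun g k => H'.sisom_ext fun x => by simp }⟩
  · rw [HermSpace.mem_SIsom, hdet]
    exact (H.mem_SIsom).1 g.2
  · rw [HermSpace.mem_SIsom, ← hdet (e.trans (g.1.1.trans e.symm)),
      show e.symm.trans ((e.trans (g.1.1.trans e.symm)).trans e) = g.1.1 from LinearEquiv.ext fun x => by simp]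
    exact (H'.mem_SIsom).1 g.2

/-- In dimension four over the field with four elements. -/
theorem four_space_facts [Fintype F] [FiniteDimensional F V] (hF : Fintype.card F = 4) (hq : Four H)
    (hd : Module.finrank F V = 4) :
    Nat.card H.SIsom = 25920 ∧ Nonempty (H.SIsom ≃* Cfsg.PSU 4 F 2) ∧ IsSimpleGroup H.SIsom ∧
      center H.SIsom = ⊥ := by
  haveI : Nontrivial V := Module.nontrivial_of_finrank_pos (R := F) (by omega)
  have hF' : Fintype.card F = 2 ^ 2 := by rw [hF]; norm_num
  have hσ : (stdHerm 4 hF').σ = H.σ := by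
    refine RingHom.ext fun a => ?_
    show powConj hF' a = H.σ a
    rw [powConj_apply]
    rcases eq_or_ne a 0 with rfl | ha
    · simp
    have h1 := hq.norm a ha
    have h3 : a ^ 3 = 1 := by
      have := FiniteField.pow_card_sub_one_eq_one a ha
      rwa [hF] at this
    exact mul_left_cancel₀ ha (by rw [h1, ← pow_succ']; exact h3)
  obtain ⟨e, he⟩ := H.exists_isometry (stdHerm 4 hF') hσ (by rw [hd, Module.finrank_fin_fun])
  obtain ⟨E⟩ := exists_sisom_equiv e he
  set E' : H.SIsom ≃* Cfsg.SU 4 F 2 := E.trans (suEquiv 4 hF')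
  have hqq : H.q = 2 := by
    have := H.card_field
    rw [Nat.card_eq_fintype_card, hF] at this
    nlinarith
  have hcard : Nat.card H.SIsom = 25920 := by
    have h := H.card_SIsom_mul
    rw [hd, hqq] at h
    norm_num [cardGUFormula, Finset.prod_range_succ, Nat.even_iff] at h
    omega
  have hZ : center (Cfsg.SU 4 F 2) = ⊥ :=
    Subgroup.eq_bot_of_card_eq _ (by rw [card_center_SU hF' (by norm_num)]; rfl)
  have hP : Nonempty (H.SIsom ≃* Cfsg.PSU 4 F 2) :=
    ⟨E'.trans ((QuotientGroup.quotientBot).symm.trans (QuotientGroup.quotientMulEquivOfEq hZ.symm))⟩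
  obtain ⟨P⟩ := hP
  haveI : IsSimpleGroup (Cfsg.PSU 4 F 2) := Cfsg.Agent.S0283.result hF' 4 (by norm_num) (by norm_num)
  refine ⟨hcard, ⟨P⟩, P.isSimpleGroup, ?_⟩
  refine (Subgroup.eq_bot_iff_forall _).2 fun z hz => E'.injective ?_
  have h1 : E' z ∈ center (Cfsg.SU 4 F 2) := mem_center_iff.2 fun y => by
    obtain ⟨x, rfl⟩ := E'.surjective y
    rw [← map_mul, ← map_mul, mem_center_iff.1 hz x]
  rw [hZ, mem_bot] at h1
  rw [h1, map_one]

namespace IsSixSpace

variable (hS : IsSixSpace H) [Finite F] {a u : V} (p : Pair H ⊤ a u)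
include hS

/-- The projection of a vector orthogonal to `a` on the complement of the pair. -/
def proj (H : HermSpace F V) (a u x : V) : V := x + H.h x u • a

include p

theorem proj_mem' {x : V} (hx : H.h x a = 0) : proj H a u x ∈ perp2 H ⊤ a u := by
  have := p.proj_mem hS.toFour (x := x) Submodule.mem_top
  rwa [hx, zero_smul, add_zero] at this

omit p in
theorem proj_cancel (a u x : V) : proj H a u x + H.h x u • a = x := by
  rw [proj, add_assoc, hS.vadd_self, add_zero]

theorem proj_form {x y : V} (hx : H.h x a = 0) (hy : H.h y a = 0) :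
    H.h (proj H a u x) (proj H a u y) = H.h x y := by
  simp only [proj, H.add_left, H.add_right, H.smul_left, H.smul_right, hx, p.iso_left, H.eq_zero_symm hy, mul_zero,
    add_zero]

omit p in
theorem proj_add (a u x y : V) : proj H a u (x + y) = proj H a u x + proj H a u y := by
  simp only [proj, H.add_left, add_smul]; abel

omit p in
theorem proj_smul (a u : V) (c : F) (x : V) : proj H a u (c • x) = c • proj H a u x := by
  simp only [proj, H.smul_left, smul_add, smul_smul]

theorem proj_self : proj H a u a = 0 := by rw [proj, p.prod, one_smul, hS.vadd_self]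

omit p in
theorem proj_of_perp {a u x : V} (hx : H.h x u = 0) : proj H a u x = x := by rw [proj, hx, zero_smul, add_zero]

theorem proj_map {g : H.SIsom} (ga : g.1.1 a = a) (x : V) :
    proj H a u (g.1.1 (proj H a u x)) = proj H a u (g.1.1 x) := by
  conv_rhs => rw [← hS.proj_cancel a u x, map_add, map_smul, ga, hS.proj_add, hS.proj_smul, hS.proj_self p,
    smul_zero, add_zero]

theorem map_perp {g : H.SIsom} (ga : g.1.1 a = a) {x : V} (hx : H.h x a = 0) : H.h (g.1.1 x) a = 0 := by
  conv_lhs => rw [← ga]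
  rw [H.map_form, hx]

theorem nondeg' : H.NondegOn (perp2 H ⊤ a u) := p.nondeg hS.toFour hS.nondegOn_top

/-- The action on the complement. -/
theorem exists_action : ∃ φ : hS.pointGroup a →* (H.restrict _ (hS.nondeg' p)).SIsom, Function.Surjective φ ∧
    ∀ (g : hS.pointGroup a) (x : perp2 H (⊤ : Submodule F V) a u),
      (((φ g).1.1 x : perp2 H (⊤ : Submodule F V) a u) : V) = proj H a u ((g : H.SIsom).1.1 x) := by
  haveI := hS.fd
  set W := perp2 H (⊤ : Submodule F V) a u with hW
  set HW := H.restrict W (hS.nondeg' p) with hHW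
  have hxa : ∀ x : W, H.h (x : V) a = 0 := fun x => (mem_perp2.mp x.2).2.1
  have hxu : ∀ x : W, H.h (x : V) u = 0 := fun x => (mem_perp2.mp x.2).2.2
  have fix : ∀ g : hS.pointGroup a, (g : H.SIsom).1.1 a = a := fun g => hS.pointGroup_fix g.2
  let L : hS.pointGroup a → (W →ₗ[F] W) := fun g =>
    { toFun := fun x => ⟨proj H a u ((g : H.SIsom).1.1 x), hS.proj_mem' p (hS.map_perp p (fix g) (hxa x))⟩
      map_add' := fun x y => Subtype.ext (by simp only [Submodule.coe_add, map_add, hS.proj_add])
      map_smul' := fun c x => Subtype.ext (by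
        simp only [Submodule.coe_smul, map_smul, hS.proj_smul, RingHom.id_apply]) }
  have hL : ∀ g k : hS.pointGroup a, ∀ x, L g (L k x) = L (g * k) x := fun g k x => Subtype.ext (by
    show proj H a u ((g : H.SIsom).1.1 (proj H a u ((k : H.SIsom).1.1 x))) = _
    rw [hS.proj_map p (fix g)]
    rfl)
  have hL1 : ∀ x, L 1 x = x := fun x => Subtype.ext (hS.proj_of_perp (hxu x))
  let Φ : hS.pointGroup a →* HW.Isom := MonoidHom.mk' (fun g =>
    ⟨LinearEquiv.ofLinearMap (L g) (L g⁻¹) (LinearMap.ext fun x => by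
        rw [LinearMap.comp_apply, hL, mul_inv_cancel, hL1]; rfl)
      (LinearMap.ext fun x => by rw [LinearMap.comp_apply, hL, inv_mul_cancel, hL1]; rfl), fun x y => by
      show H.h (proj H a u ((g : H.SIsom).1.1 x)) (proj H a u ((g : H.SIsom).1.1 y)) = H.h (x : V) y
      rw [hS.proj_form p (hS.map_perp p (fix g) (hxa x)) (hS.map_perp p (fix g) (hxa y)), H.map_form]⟩)
    fun g k => HW.isom_ext fun x => (hL g k x).symm
  have hΦ : ∀ g x, ((Φ g).1 x : V) = proj H a u ((g : H.SIsom).1.1 x) := fun g x => rfl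
  have htv : ∀ (w : V) (hw : H.h w w = 0) (hwa : H.h w a = 0) (x : W),
      (Φ ⟨hS.tv hw, hS.tv_mem_pointGroup hw hwa⟩).1 x =
        x + H.h (x : V) (proj H a u w) • ⟨proj H a u w, hS.proj_mem' p hwa⟩ := fun w hw hwa x => Subtype.ext (by
    rw [hΦ, Submodule.coe_add, Submodule.coe_smul]
    show proj H a u ((hS.tv hw).1.1 x) = _
    rw [hS.tv_apply, hS.proj_add, hS.proj_smul, hS.proj_of_perp (hxu x)]
    congr 2
    conv_rhs => rw [proj, H.add_right, H.smul_right, hxa x, mul_zero, add_zero])
  have h4 : Module.finrank F W = 4 := by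
    have : Module.finrank F W + 2 = 6 := (p.finrank hS.toFour).trans hS.finrank_top_eq
    omega
  have hq : Four HW := ⟨hS.two, hS.norm⟩
  have hmem : ∀ g, Φ g ∈ HW.SIsom := by
    rintro ⟨g, hg⟩
    induction hg using closure_induction with
    | mem t ht =>
      obtain ⟨w, hw, hwa, rfl⟩ := ht
      have hw' : HW.h ⟨_, hS.proj_mem' p hwa⟩ ⟨_, hS.proj_mem' p hwa⟩ = 0 := by
        show H.h (proj H a u w) (proj H a u w) = 0
        rw [hS.proj_form p hwa hwa, hw]
      have e : Φ ⟨hS.tv hw, hS.tv_mem_pointGroup hw hwa⟩ = (TTUnitary.tv hq ⟨_, hS.proj_mem' p hwa⟩).1 :=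
        HW.isom_ext fun x => by rw [htv w hw hwa x, TTUnitary.tv_apply hq hw']; rfl
      rw [e]
      exact SetLike.coe_mem _
    | one => exact (map_one Φ).symm ▸ one_mem _
    | mul x y hx hy hx' hy' =>
      rw [show (⟨x * y, mul_mem hx hy⟩ : hS.pointGroup a) = ⟨x, hx⟩ * ⟨y, hy⟩ from rfl, map_mul]
      exact mul_mem hx' hy'
    | inv x hx hx' =>
      rw [show (⟨x⁻¹, inv_mem hx⟩ : hS.pointGroup a) = (⟨x, hx⟩ : hS.pointGroup a)⁻¹ from rfl, map_inv]
      exact inv_mem hx'
  refine ⟨Φ.codRestrict _ hmem, MonoidHom.range_eq_top.1 (eq_top_iff.2 ?_), fun g x => hΦ g x⟩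
  rw [← (HermSpace.threeTransposition (H := HW) h4.ge hS.two hS.norm).2.2, closure_le]
  rintro t ⟨w, -, hw, hwe⟩
  have hw' : H.h (w : V) (w : V) = 0 := hw
  refine ⟨⟨hS.tv hw', hS.tv_mem_pointGroup hw' (hxa w)⟩, HW.sisom_ext fun x => ?_⟩
  show (Φ ⟨hS.tv hw', _⟩).1 x = t.1.1 x
  rw [htv _ hw' (hxa w), hwe]
  simp only [hS.proj_of_perp (hxu w)]
  rfl

end IsSixSpace

end Cfsg.Lib.ThreeTr
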