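import Cfsg.Agent.S0303
import Cfsg.Agent.S0815
import Cfsg.Agent.S0280
import Cfsg.Agent.S0283
import Cfsg.Agent.Classical.Misc.Reflections
import Cfsg.Agent.Classical.Orth.StdForms
import Cfsg.Agent.Classical.Orth.Orders
import Cfsg.Agent.ThreeTransposition.M22Count.Pair.Quotient

/-!
The isometry group of the elliptic form in dimension six over the field with two elements is the automorphism group of
the unitary group in dimension four over the field with four elements.
-/

set_option autoImplicit false
set_option linter.unusedSectionVars false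
set_option linter.style.haveILetI false

namespace Cfsg.Lib.ThreeTr.OrthSix

open Cfsg Matrix Cfsg.Lib.Classical
open scoped commutatorElement

/-- Coordinates. -/
abbrev V := (Fin 2 ⊕ Fin 2) ⊕ Fin 2 → ZMod 2

/-- The form. -/
abbrev qf : QuadraticForm (ZMod 2) V := Refl.minusForm 2 (ZMod 2) 1 1

/-- The bilinear form. -/
def bil (x y : V) : ZMod 2 :=
  Cfsg.quadFormMinus 2 (ZMod 2) 1 1 (x + y) - Cfsg.quadFormMinus 2 (ZMod 2) 1 1 x -
    Cfsg.quadFormMinus 2 (ZMod 2) 1 1 y

theorem qf_coe : ⇑qf = Cfsg.quadFormMinus 2 (ZMod 2) 1 1 := Refl.minusForm_coe 2 1 1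

theorem polar_eq (x y : V) : QuadraticMap.polar (⇑qf) x y = bil x y := by
  rw [qf_coe]; rfl

set_option synthInstance.maxSize 4000 in
set_option synthInstance.maxHeartbeats 200000 in
theorem two_partners : ∀ u : V, Cfsg.quadFormMinus 2 (ZMod 2) 1 1 u = 1 →
    ∃ v : V, Cfsg.quadFormMinus 2 (ZMod 2) 1 1 v = 1 ∧ bil u v = 1 ∧
    ∃ w : V, Cfsg.quadFormMinus 2 (ZMod 2) 1 1 w = 1 ∧ bil u w = 1 ∧ w ≠ v ∧ w ≠ u + v := by
  unfold bil Cfsg.quadFormMinus
  decide +kernel

set_option synthInstance.maxSize 4000 in
set_option synthInstance.maxHeartbeats 200000 in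
theorem sum_two : ∀ x : V, Cfsg.quadFormMinus 2 (ZMod 2) 1 1 x = 1 ∨
    ∃ y : V, Cfsg.quadFormMinus 2 (ZMod 2) 1 1 y = 1 ∧ Cfsg.quadFormMinus 2 (ZMod 2) 1 1 (x + y) = 1 := by
  unfold Cfsg.quadFormMinus
  decide +kernel

set_option synthInstance.maxSize 4000 in
set_option synthInstance.maxHeartbeats 200000 in
theorem bil_self : ∀ x : V, bil x x = 0 := by
  unfold bil Cfsg.quadFormMinus
  decide +kernel

/-- Multiplication by an element. -/
abbrev app (g : Cfsg.isometryGroup (ZMod 2) (⇑qf)) (x : V) : V :=
  Matrix.mulVec (((g : Matrix.GeneralLinearGroup ((Fin 2 ⊕ Fin 2) ⊕ Fin 2) (ZMod 2))) :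
    Matrix ((Fin 2 ⊕ Fin 2) ⊕ Fin 2) ((Fin 2 ⊕ Fin 2) ⊕ Fin 2) (ZMod 2)) x

theorem refl_apply {v : V} (hv : qf v = 1) (x : V) :
    app (Refl.refl qf v (by rw [hv]; exact one_ne_zero)) x = x + bil v x • v := by
  rw [app, Refl.coe_refl, Refl.mulVec_eq, hv, polar_eq, inv_one, one_mul, CharTwo.sub_eq_add]

theorem bil_symm (x y : V) : bil x y = bil y x := by
  rw [← polar_eq, ← polar_eq, QuadraticMap.polar_comm]

theorem centralizer_omega (g : Cfsg.isometryGroup (ZMod 2) (⇑qf))
    (hg : ∀ h ∈ Cfsg.Omega (ZMod 2) (⇑qf), h * g = g * h) : g = 1 := by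
  have hfix : ∀ u : V, qf u = 1 → app g u = u := by
    intro u hu
    have hu' : Cfsg.quadFormMinus 2 (ZMod 2) 1 1 u = 1 := by rw [← qf_coe]; exact hu
    obtain ⟨v, hv, huv, w, hw, huw, hwv, hwuv⟩ := two_partners u hu'
    have key : ∀ v : V, Cfsg.quadFormMinus 2 (ZMod 2) 1 1 v = 1 → bil u v = 1 →
        ∃ α β : ZMod 2, app g u = α • u + β • v := by
      intro v hv huv
      have hv1 : qf v = 1 := by rw [qf_coe]; exact hv
      set ru := Refl.refl qf u (by rw [hu]; exact one_ne_zero) with hru
      set rv := Refl.refl qf v (by rw [hv1]; exact one_ne_zero) with hrv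
      set t := ⁅rv, ru⁆ with ht
      have htm : t ∈ Cfsg.Omega (ZMod 2) (⇑qf) :=
        Subgroup.commutator_mem_commutator (Subgroup.mem_top _) (Subgroup.mem_top _)
      have hu2 : u + u = 0 := by funext i; exact CharTwo.add_self_eq_zero _
      have hv2 : v + v = 0 := by funext i; exact CharTwo.add_self_eq_zero _
      have e1 : app ru u = u := by rw [hru, refl_apply hu, bil_self, zero_smul, add_zero]
      have e2 : app rv v = v := by rw [hrv, refl_apply hv1, bil_self, zero_smul, add_zero]
      have hru2 : ∀ x, app ru (app ru x) = x := fun x => by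
        have hb : bil u (x + bil u x • u) = bil u x := by
          rw [← polar_eq, QuadraticMap.polar_add_right, QuadraticMap.polar_smul_right, polar_eq, polar_eq, bil_self,
            smul_zero, add_zero]
        rw [hru, refl_apply hu, refl_apply hu, hb, add_assoc, ← smul_add, hu2, smul_zero, add_zero]
      have hrv2 : ∀ x, app rv (app rv x) = x := fun x => by
        have hb : bil v (x + bil v x • v) = bil v x := by
          rw [← polar_eq, QuadraticMap.polar_add_right, QuadraticMap.polar_smul_right, polar_eq, polar_eq, bil_self,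
            smul_zero, add_zero]
        rw [hrv, refl_apply hv1, refl_apply hv1, hb, add_assoc, ← smul_add, hv2, smul_zero, add_zero]
      have hmul : ∀ (x y : Cfsg.isometryGroup (ZMod 2) (⇑qf)) (z : V), app (x * y) z = app x (app y z) :=
        fun x y z => Refl.mulVec_mul qf x y z
      have hinv : ∀ (r : Cfsg.isometryGroup (ZMod 2) (⇑qf)), (∀ x, app r (app r x) = x) → ∀ x, app r⁻¹ x = app r x := by
        intro r hr x
        conv_lhs => rw [← hr x]
        rw [← hmul, inv_mul_cancel]
        exact Matrix.one_mulVec _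
      have hform : ∀ x, app t x = app rv (app ru (app rv (app ru x))) := fun x => by
        rw [ht, commutatorElement_def, hmul, hmul, hmul, hinv _ hru2, hinv _ hrv2]
      have f1 : app rv u = u + v := by rw [hrv, refl_apply hv1, bil_symm, huv, one_smul]
      have f2 : app ru v = v + u := by rw [hru, refl_apply hu, huv, one_smul]
      have f3 : app ru (u + v) = v := by
        rw [app, Matrix.mulVec_add, ← app, ← app, e1, f2, add_left_comm, hu2, add_zero]
      have f4 : app rv (u + v) = u := by
        rw [app, Matrix.mulVec_add, ← app, ← app, f1, e2, add_assoc, hv2, add_zero]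
      have tv : app t v = u + v := by
        rw [hform, f2, add_comm v u, f4, e1, f1]
      have hcom : app g (app t v) = app t (app g v) := by
        rw [← hmul, ← hmul, hg t htm]
      have hspan : app g u = app t (app g v) + app g v := by
        rw [← hcom, tv, app, app, Matrix.mulVec_add, add_assoc,
          show app g v + app g v = 0 from funext fun i => CharTwo.add_self_eq_zero _, add_zero]
      set y := app g v
      rw [hspan, hform, hru, hrv, refl_apply hu, refl_apply hv1, refl_apply hu, refl_apply hv1]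
      generalize bil u y = p
      generalize bil v (y + p • u) = q
      generalize bil u (y + p • u + q • v) = r
      generalize bil v (y + p • u + q • v + r • u) = s
      refine ⟨p + r, q + s, ?_⟩
      rw [add_smul, add_smul]
      have hy2 : y + y = 0 := by funext i; exact CharTwo.add_self_eq_zero _
      calc y + p • u + q • v + r • u + s • v + y = (y + y) + (p • u + r • u + (q • v + s • v)) := by abel
        _ = _ := by rw [hy2, zero_add]
    obtain ⟨α, β, e⟩ := key v hv huv
    obtain ⟨α', β', e'⟩ := key w hw huw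
    have hne : app g u ≠ 0 := fun e0 => by
      have := (Refl.mem_iff qf).1 g.2 u
      change qf (app g u) = qf u at this
      rw [e0, hu, QuadraticMap.map_zero] at this
      exact zero_ne_one this
    have huv0 : u ≠ v := fun e0 => by rw [e0, bil_self] at huv; exact zero_ne_one huv
    have huw0 : u ≠ w := fun e0 => by rw [e0, bil_self] at huw; exact zero_ne_one huw
    rcases (by decide : ∀ z : ZMod 2, z = 0 ∨ z = 1) α with rfl | rfl <;>
      rcases (by decide : ∀ z : ZMod 2, z = 0 ∨ z = 1) β with rfl | rfl <;>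
      rcases (by decide : ∀ z : ZMod 2, z = 0 ∨ z = 1) α' with rfl | rfl <;>
      rcases (by decide : ∀ z : ZMod 2, z = 0 ∨ z = 1) β' with rfl | rfl <;>
      simp only [zero_smul, one_smul, zero_add, add_zero] at e e' <;>
      first
        | exact absurd e hne
        | exact absurd e' hne
        | exact e
        | exact e'
        | exact absurd (e'.symm.trans e) hwv
        | exact absurd (e'.symm.trans e) hwuv
        | (exfalso; have h2 := e.symm.trans e'; first
            | exact hwuv (by rw [h2, ← add_assoc, show u + u = 0 from funext fun i => CharTwo.add_self_eq_zero _,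
                zero_add])
            | exact hwv (add_left_cancel h2).symm)
  have hall : ∀ x : V, app g x = x := fun x => by
    rcases sum_two x with h | ⟨y, hy, hxy⟩
    · exact hfix x (by rw [qf_coe]; exact h)
    · have h1 := hfix y (by rw [qf_coe]; exact hy)
      have h2 := hfix (x + y) (by rw [qf_coe]; exact hxy)
      rw [app, Matrix.mulVec_add, ← app, ← app, h1] at h2
      exact add_right_cancel h2
  refine Subtype.ext (Units.ext (Matrix.ext fun i j => ?_))
  have := congrFun (hall (Pi.single j 1)) i
  rw [app, Matrix.mulVec_single_one] at this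
  simpa [Matrix.one_apply, Pi.single_apply, eq_comm] using this

theorem aniso : ∀ z₁ z₂ : ZMod 2, z₁ ^ 2 + 1 * z₁ * z₂ + 1 * z₂ ^ 2 = 0 → z₁ = 0 ∧ z₂ = 0 := by decide

theorem isometry_equiv_mulAut {F : Type} [Field F] [Fintype F] (hF : Fintype.card F = 4) :
    Nonempty (MulAut (Cfsg.PSU 4 F 2) ≃* Cfsg.isometryGroup (ZMod 2) (Cfsg.quadFormMinus 2 (ZMod 2) 1 1)) := by
  haveI : Fact (Nat.Prime 2) := ⟨Nat.prime_two⟩
  have hab := aniso
  obtain ⟨e⟩ := Cfsg.Agent.S0303.result (F := ZMod 2) (K := F) (q := 2) (ZMod.card 2) (by rw [hF]; norm_num) 1 1 hab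
  rw [← qf_coe] at e ⊢
  set O := Cfsg.isometryGroup (ZMod 2) (⇑qf)
  set Ω := Cfsg.Omega (ZMod 2) (⇑qf)
  have hZ : Subgroup.center ↥Ω = ⊥ := (Subgroup.eq_bot_iff_forall _).2 fun z hz => Subtype.ext (centralizer_omega _
    fun h hh => congrArg Subtype.val (Subgroup.mem_center_iff.1 hz ⟨h, hh⟩))
  let e' : ↥Ω ≃* Cfsg.PSU 4 F 2 :=
    (QuotientGroup.quotientBot.symm.trans (QuotientGroup.quotientMulEquivOfEq hZ.symm)).trans e
  let Φ : ↥O →* MulAut ↥Ω := MulAut.conjNormal
  have hinj : Function.Injective Φ := (injective_iff_map_eq_one Φ).2 fun g hg => centralizer_omega g fun h hh => by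
    have := congrArg Subtype.val (DFunLike.congr_fun hg ⟨h, hh⟩)
    rw [MulAut.conjNormal_apply, MulAut.one_apply] at this
    exact (mul_inv_eq_iff_eq_mul.1 this).symm
  have hO : Nat.card ↥O = 51840 := by
    have := OrthCard.card_minus (F := ZMod 2) hab 2
    rw [← qf_coe, Nat.card_zmod] at this
    rw [this]
    norm_num [OrthCard.prodQ, Finset.prod_range_succ]
  have hP : Nat.card (Cfsg.PSU 4 F 2) = 25920 := by
    have h1 := Cfsg.Agent.S0280.result (F := F) (q := 2) (by rw [hF]; norm_num) 4 (by norm_num)
    norm_num [Finset.prod_range_succ, Nat.even_iff] at h1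
    omega
  have hA : Nat.card (MulAut (Cfsg.PSU 4 F 2)) = 51840 := by
    rw [Cfsg.Agent.S0815.result (F := F) 2 1 le_rfl (q := 2) (by norm_num) (by rw [hF]; norm_num)
      4 (by norm_num) (by norm_num), hP]
    rfl
  have hinj' : Function.Injective ((MulAut.congr e').toMonoidHom.comp Φ) := (MulAut.congr e').injective.comp hinj
  exact ⟨(MulEquiv.ofBijective _ ((Nat.bijective_iff_injective_and_card _).2 ⟨hinj', hO.trans hA.symm⟩)).symm⟩

end Cfsg.Lib.ThreeTr.OrthSix
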