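import Cfsg.Agent.ThreeTransposition.M22Count.Pair.Product

/-!
The centraliser of the product of two commuting members modulo its normal 2-subgroup.
-/

set_option autoImplicit false
set_option linter.unusedSectionVars false
set_option linter.style.haveILetI false

namespace Cfsg.Lib.ThreeTr

open Cfsg Subgroup Cfsg.Lib.Classical

universe u

variable {G : Type u} [Group G] {D : Set G}

namespace M22

variable [Finite G] (h : M22 D) {a b : G} (ha : a ∈ D) (hb : b ∈ perp D a)
include h ha hb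

theorem index_pair : ((centralizer ({a, b} : Set G)).subgroupOf (centralizer ({a * b} : Set G))).index = 2 := by
  obtain ⟨σ, r, h2, hσa, hσb, -, -, -, -⟩ := h.exists_swap ha hb
  have hσ : σ ∈ centralizer ({a * b} : Set G) := by
    rw [mem_centralizer_singleton_iff, ← mul_inv_eq_iff_eq_mul]
    rw [show σ * (a * b) * σ⁻¹ = (σ * a * σ⁻¹) * (σ * b * σ⁻¹) by group, hσa, hσb]
    exact hb.2.2.eq.symm
  have hn : ∀ {g : G}, g ∈ centralizer ({a, b} : Set G) ↔ g * a * g⁻¹ = a ∧ g * b * g⁻¹ = b := fun {g} => by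
    rw [mem_centralizer_pair, mul_inv_eq_iff_eq_mul, mul_inv_eq_iff_eq_mul]; rfl
  rw [Subgroup.index_eq_two_iff]
  refine ⟨⟨σ, hσ⟩, fun x => ?_⟩
  rw [mem_subgroupOf, mem_subgroupOf, Subgroup.coe_mul, hn, hn]
  have e1 : ∀ w, (x : G) * σ * w * ((x : G) * σ)⁻¹ = (x : G) * (σ * w * σ⁻¹) * (x : G)⁻¹ := fun w => by group
  rw [e1, e1, hσa, hσb]
  rcases h.mem_pair_prod ha hb x.2 with ⟨p, q⟩ | ⟨p, q⟩
  · rw [p, q]; exact Or.inr ⟨⟨rfl, rfl⟩, fun e => hb.2.1 e.1⟩
  · rw [p, q]; exact Or.inl ⟨⟨rfl, rfl⟩, fun e => hb.2.1 e.1⟩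

end M22

/-- Automorphism groups of isomorphic groups have the same order. -/
theorem card_mulAut_congr {A B : Type*} [Group A] [Group B] (e : A ≃* B) :
    Nat.card (MulAut A) = Nat.card (MulAut B) := Nat.card_congr (MulAut.congr e).toEquiv

/-- An action by automorphisms keeping a kernel invariant acts on the image. -/
theorem exists_induced_aut {C K Q : Type*} [Group C] [Group K] [Group Q] (ψ : K →* Q) (hψ : Function.Surjective ψ)
    (α : C →* MulAut K) (hker : ∀ c k, ψ k = 1 → ψ (α c k) = 1) :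
    ∃ Θ : C →* MulAut Q, (∀ c k, Θ c (ψ k) = ψ (α c k)) ∧ ∀ c, c ∈ Θ.ker ↔ ∀ k, ψ (α c k) = ψ k := by
  have hle : ∀ c, ψ.ker ≤ (ψ.comp (α c).toMonoidHom).ker := fun c k hk => hker c k hk
  have hLex : ∀ c, ∃ L : Q →* Q, ∀ k, L (ψ k) = ψ (α c k) := fun c =>
    ⟨ψ.liftOfSurjective hψ ⟨_, hle c⟩, fun k => MonoidHom.liftOfRightInverse_comp_apply ψ _ _ ⟨_, hle c⟩ k⟩
  choose L hL using hLex
  have hmul : ∀ c d x, L c (L d x) = L (c * d) x := fun c d x => by
    obtain ⟨k, rfl⟩ := hψ x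
    rw [hL, hL, hL, map_mul, MulAut.mul_apply]
  have hone : ∀ x, L 1 x = x := fun x => by
    obtain ⟨k, rfl⟩ := hψ x
    rw [hL, map_one, MulAut.one_apply]
  refine ⟨MonoidHom.mk' (fun c => MonoidHom.toMulEquiv (L c) (L c⁻¹)
      (MonoidHom.ext fun x => (hmul _ _ x).trans (by rw [inv_mul_cancel]; exact hone x))
      (MonoidHom.ext fun x => (hmul _ _ x).trans (by rw [mul_inv_cancel]; exact hone x)))
    fun c d => MulEquiv.ext fun x => (hmul c d x).symm, fun c k => hL c k, fun c => ⟨fun hc k => ?_, fun hc => ?_⟩⟩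
  · exact (hL c k).symm.trans (DFunLike.congr_fun (MonoidHom.mem_ker.1 hc) (ψ k))
  · refine MonoidHom.mem_ker.2 (MulEquiv.ext fun x => ?_)
    obtain ⟨k, rfl⟩ := hψ x
    exact (hL c k).trans (hc k)

/-- A homomorphism onto by counting. -/
theorem surjective_of_card {A B : Type*} [Group A] [Group B] [Finite B] (f : A →* B) {k m n : ℕ}
    (hk : Nat.card ↥f.ker = k) (hm : Nat.card A = m) (hn : Nat.card B = n) (h : m = k * n ∧ 0 < k) :
    Function.Surjective f := by
  refine MonoidHom.range_eq_top.1 (Subgroup.eq_top_of_card_eq _ ?_)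
  have h1 := f.ker.card_mul_index
  rw [Subgroup.index_ker f, hk, hm, h.1] at h1
  exact (Nat.eq_of_mul_eq_mul_left h.2 h1).trans hn.symm

namespace PairModel

variable [Finite G] {a b : G} {F : Type} [Field F] [Fintype F] {H : HermSpace F (Fin 6 → F)}
  {π : H.SIsom →* ↥(closure (perp D a)) ⧸ center ↥(closure (perp D a))} {vec : G → (Fin 6 → F)}
  {u : Fin 6 → F} (P : PairModel D a b H π vec u)
include P

set_option maxHeartbeats 600000 in
/-- The quotient by the subgroup. -/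
theorem quotient_aut : ∃ (_ : ((pairTwo D a b).subgroupOf (centralizer ({a * b} : Set G))).Normal),
    Nonempty (↥(centralizer ({a * b} : Set G)) ⧸ (pairTwo D a b).subgroupOf (centralizer ({a * b} : Set G)) ≃*
      MulAut (Cfsg.PSU 4 F 2)) := by
  set C := centralizer ({a * b} : Set G)
  set K := centralizer ({a, b} : Set G) with hK
  obtain ⟨ψ, hψ⟩ := P.exists_isPsi
  obtain ⟨hcard, hker, -⟩ := P.pairTwo_facts hψ
  haveI := P.model.six.fd
  have hF : Fintype.card F = 4 := by rw [← Nat.card_eq_fintype_card]; exact P.model.four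
  obtain ⟨hSU, ⟨e⟩, -, -⟩ := four_space_facts hF P.space_four P.space_dim
  haveI hnormal : ((pairTwo D a b).subgroupOf C).Normal :=
    ⟨fun x hx g => by
      rw [mem_subgroupOf] at hx ⊢
      exact P.two_normal hψ g.2 hx⟩
  -- the action on the joint centraliser
  let α : ↥C →* MulAut ↥K := MonoidHom.mk' (fun c =>
    { toFun := fun k => ⟨(c : G) * k * (c : G)⁻¹, P.pair_normal c.2 k.2⟩
      invFun := fun k => ⟨(c : G)⁻¹ * k * (c : G)⁻¹⁻¹, P.pair_normal (inv_mem c.2) k.2⟩
      left_inv := fun k => Subtype.ext (by simp [mul_assoc])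
      right_inv := fun k => Subtype.ext (by simp [mul_assoc])
      map_mul' := fun k l => Subtype.ext (by simp [mul_assoc]) })
    fun c d => MulEquiv.ext fun k => Subtype.ext (by simp [mul_assoc])
  have hα : ∀ c k, ((α c k : ↥K) : G) = (c : G) * k * (c : G)⁻¹ := fun _ _ => rfl
  have hmem : ∀ (k : ↥K), ψ k = 1 ↔ (k : G) ∈ pairTwo D a b := fun k => by
    rw [hker]
    exact ⟨fun hk => ⟨k, hk, rfl⟩, fun ⟨k', hk', e'⟩ => (Subtype.ext e' : k' = k) ▸ hk'⟩
  obtain ⟨Θ, -, hΘ⟩ := exists_induced_aut ψ hψ.1 α fun c k hk => (hmem _).2 (by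
    rw [hα]; exact P.two_normal hψ c.2 ((hmem k).1 hk))
  have hΘker : Θ.ker = (pairTwo D a b).subgroupOf C := by
    ext c
    rw [hΘ, mem_subgroupOf]
    refine ⟨fun hc => P.mem_two_of_central hψ c.2 fun k hk => ?_, fun hc k => ?_⟩
    · have h1 : ψ (α c ⟨k, hk⟩ * (⟨k, hk⟩ : ↥K)⁻¹) = 1 := by
        rw [map_mul, map_inv, hc, mul_inv_cancel]
      exact (hmem _).1 h1
    · have hcK : (c : G) ∈ K := pairTwo_le P.hb.2.2 hc
      have e2 : α c k = ⟨c, hcK⟩ * k * (⟨c, hcK⟩ : ↥K)⁻¹ := Subtype.ext (hα c k)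
      rw [e2, map_mul, map_mul, map_inv, (hmem ⟨c, hcK⟩).2 hc, one_mul, inv_one, mul_one]
  have hleKC : K ≤ C := P.m22.pair_le_prod P.ha P.hb
  have hCcard : Nat.card ↥C = 53084160 := by
    have h1 := (K.subgroupOf C).card_mul_index
    rw [P.m22.index_pair P.ha P.hb, Nat.card_congr (subgroupOfEquivOfLe hleKC).toEquiv,
      P.m22.card_pair_centralizer P.ha P.hb] at h1
    omega
  have hEcard : Nat.card ↥((pairTwo D a b).subgroupOf C) = 1024 := by
    rw [Nat.card_congr (subgroupOfEquivOfLe ((pairTwo_le P.hb.2.2).trans hleKC)).toEquiv, hcard]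
    norm_num
  haveI : Finite (Cfsg.PSU 4 F 2) := Finite.of_equiv _ e.toEquiv
  haveI : Finite (MulAut P.space.SIsom) :=
    Finite.of_injective (fun φ : MulAut P.space.SIsom => (φ : P.space.SIsom → P.space.SIsom)) DFunLike.coe_injective
  have hAut : Nat.card (MulAut P.space.SIsom) = 51840 := by
    haveI : Fact (Nat.Prime 2) := ⟨Nat.prime_two⟩
    rw [card_mulAut_congr e, Cfsg.Agent.S0815.result (F := F) 2 1 le_rfl (q := 2) (by norm_num) (by rw [hF]; norm_num)
      4 (by norm_num) (by norm_num), ← Nat.card_congr e.toEquiv, hSU]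
    rfl
  have hsurj : Function.Surjective Θ :=
    surjective_of_card Θ ((congrArg (fun X : Subgroup ↥C => Nat.card ↥X) hΘker).trans hEcard) hCcard hAut
      (by norm_num)
  exact ⟨hnormal, ⟨((QuotientGroup.quotientMulEquivOfEq hΘker.symm).trans
    (QuotientGroup.quotientKerEquivOfSurjective Θ hsurj)).trans (MulAut.congr e)⟩⟩

end PairModel

end Cfsg.Lib.ThreeTr
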