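import Cfsg.Agent.ThreeTransposition.M22Count.Pair.Aut
import Cfsg.Agent.Components.GenFitting
import Cfsg.Agent.PGroups.Basic
import Cfsg.Agent.SolvStruct.TwoGroupLinearRank

/-!
The generalised Fitting subgroup of the centraliser of the product of two commuting members.
-/

set_option autoImplicit false
set_option linter.unusedSectionVars false
set_option linter.style.haveILetI false

namespace Cfsg.Lib.ThreeTr

open Cfsg Subgroup Cfsg.Lib.Classical Cfsg.Lib.TTUnitary

universe u

variable {G : Type u} [Group G] {D : Set G}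

/-- A group with squares and commutators in `⟨z⟩` and centre `⟨a, z⟩` is `2 ×` an extraspecial group. -/
theorem split_extraspecial {E : Type u} [Group E] [Finite E] {a z : E} (ha : a * a = 1) (hz : orderOf z = 2)
    (haz : a ∉ zpowers z) (hc : ∀ x y : E, x * y * x⁻¹ * y⁻¹ ∈ zpowers z) (hsq : ∀ x : E, x * x ∈ zpowers z)
    (hac : a ∈ center E) (hzc : z ∈ center E) (hZ : center E ≤ closure ({a, z} : Set E))
    (hna : ∃ x y : E, ¬ Commute x y) :
    ∃ M : Subgroup E, IsExtraspecial 2 ↥M ∧ 2 * Nat.card ↥M = Nat.card E ∧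
      Nonempty (E ≃* Multiplicative (ZMod 2) × ↥M) := by
  haveI : Fact (Nat.Prime 2) := ⟨Nat.prime_two⟩
  obtain ⟨M, ⟨hzM, haM⟩, hmax⟩ := WellFounded.has_min (wellFounded_gt (α := Subgroup E))
    {M | zpowers z ≤ M ∧ a ∉ M} ⟨zpowers z, le_rfl, haz⟩
  haveI hMn : M.Normal := ⟨fun x hx g => by
    rw [show g * x * g⁻¹ = (g * x * g⁻¹ * x⁻¹) * x by group]
    exact mul_mem (hzM (hc g x)) hx⟩
  have hsqM : ∀ g : E, g * g ∈ M := fun g => hzM (hsq g)
  have hcov : ∀ x : E, x ∈ M ∨ a * x ∈ M := by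
    intro x
    by_contra hcon
    push Not at hcon
    let N : Subgroup E :=
      { carrier := {g | g ∈ M ∨ x * g ∈ M}
        one_mem' := Or.inl M.one_mem
        mul_mem' := by
          rintro g h (hg | hg) (hh | hh)
          · exact Or.inl (mul_mem hg hh)
          · refine Or.inr ?_
            rw [show x * (g * h) = (x * g * x⁻¹) * (x * h) by group]
            exact mul_mem (hMn.conj_mem g hg x) hh
          · exact Or.inr (by rw [← mul_assoc]; exact mul_mem hg hh)
          · refine Or.inl ?_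
            rw [show g * h = (x * x)⁻¹ * ((x * (x * g) * x⁻¹) * (x * h)) by group]
            exact mul_mem (inv_mem (hsqM x)) (mul_mem (hMn.conj_mem _ hg x) hh)
        inv_mem' := by
          rintro g (hg | hg)
          · exact Or.inl (inv_mem hg)
          · refine Or.inr ?_
            rw [show x * g⁻¹ = (x * (x * g)⁻¹ * x⁻¹) * (x * x) by group]
            exact mul_mem (hMn.conj_mem _ (inv_mem hg) x) (hsqM x) }
    have hxN : x ∈ N := Or.inr (hsqM x)
    have hlt : M < N := lt_of_le_of_ne (fun g hg => Or.inl hg) fun e => hcon.1 (e.ge hxN)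
    refine hmax N ⟨hzM.trans hlt.le, fun haN => ?_⟩ hlt
    rcases haN with h' | h'
    · exact haM h'
    · exact hcon.2 (by rwa [mem_center_iff.1 hac x] at h')
  have hacomm : ∀ g : E, Commute a g := fun g => (mem_center_iff.1 hac g).symm
  have hnaM : ∃ x y : ↥M, ¬ Commute x y := by
    by_contra hcon
    push Not at hcon
    obtain ⟨x, y, hxy⟩ := hna
    refine hxy ?_
    have key : ∀ g : E, ∃ m : ↥M, g = m ∨ g = a * m := fun g => by
      rcases hcov g with h | h
      · exact ⟨⟨g, h⟩, Or.inl rfl⟩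
      · exact ⟨⟨a * g, h⟩, Or.inr (by show g = a * (a * g); rw [← mul_assoc, ha, one_mul])⟩
    obtain ⟨m, hm⟩ := key x
    obtain ⟨n, hn⟩ := key y
    have hmn : Commute (m : E) n := congrArg Subtype.val (hcon m n).eq
    rcases hm with rfl | rfl <;> rcases hn with rfl | rfl
    · exact hmn
    · exact (hacomm _).symm.mul_right hmn
    · exact (hacomm _).mul_left hmn
    · exact ((Commute.refl a).mul_right (hacomm _)).mul_left ((hacomm _).symm.mul_right hmn)
  set Z : Subgroup ↥M := zpowers ⟨z, hzM (mem_zpowers z)⟩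
  have hmemZ : ∀ m : ↥M, (m : E) ∈ zpowers z → m ∈ Z := fun m hm => by
    obtain ⟨n, hn⟩ := mem_zpowers_iff.1 hm
    exact mem_zpowers_iff.2 ⟨n, Subtype.ext (by rw [Subgroup.coe_zpow]; exact hn)⟩
  have hZcard : Nat.card ↥Z = 2 := by
    rw [Nat.card_zpowers, ← Subgroup.orderOf_coe]; exact hz
  have hcen : center ↥M = Z := by
    refine le_antisymm (fun m hm => hmemZ m ?_) (zpowers_le.2 (mem_center_iff.2 fun g =>
      Subtype.ext (mem_center_iff.1 hzc g)))
    have hmE : (m : E) ∈ center E := mem_center_iff.2 fun g => by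
      rcases hcov g with h | h
      · exact congrArg Subtype.val (mem_center_iff.1 hm ⟨g, h⟩)
      · have h1 : a * g * m = m * (a * g) := congrArg Subtype.val (mem_center_iff.1 hm ⟨a * g, h⟩)
        exact ((by rw [← mul_assoc, ← (hacomm (m : E)).eq, mul_assoc] at h1; rw [mul_assoc] at h1; exact
          mul_left_cancel h1 : g * (m : E) = m * g))
    have hz2 : z * z = 1 := by rw [← pow_two, ← hz]; exact pow_orderOf_eq_one z
    have hclo : ∀ g ∈ closure ({a, z} : Set E), g ∈ zpowers z ∨ a * g ∈ zpowers z := by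
      intro g hg
      induction hg using closure_induction with
      | mem s hs =>
        rcases hs with rfl | rfl
        · exact Or.inr (by rw [ha]; exact one_mem _)
        · exact Or.inl (mem_zpowers _)
      | one => exact Or.inl (one_mem _)
      | mul g h _ _ hg hh =>
        rcases hg with hg | hg <;> rcases hh with hh | hh
        · exact Or.inl (mul_mem hg hh)
        · exact Or.inr (by rw [← mul_assoc, (hacomm g).eq, mul_assoc]; exact mul_mem hg hh)
        · exact Or.inr (by rw [← mul_assoc]; exact mul_mem hg hh)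
        · refine Or.inl ?_
          have := mul_mem hg hh
          rwa [show a * g * (a * h) = g * h by
            rw [(hacomm g).eq, mul_assoc, ← mul_assoc a a h, ha, one_mul]] at this
      | inv g _ hg =>
        rcases hg with hg | hg
        · exact Or.inl (inv_mem hg)
        · refine Or.inr ?_
          have := inv_mem hg
          rwa [mul_inv_rev, inv_eq_of_mul_eq_one_right ha, ← (hacomm g⁻¹).eq] at this
    rcases hclo _ (hZ hmE) with h | h
    · exact h
    · exact absurd (by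
        have := mul_mem (hzM h) (inv_mem m.2)
        rwa [mul_inv_cancel_right] at this) haM
  have hP : IsPGroup 2 ↥M := fun m => ⟨2, Subtype.ext (by
    obtain ⟨n, hn⟩ := mem_zpowers_iff.1 (hsq (m : E))
    have hz2 : z * z = 1 := by rw [← pow_two, ← hz]; exact pow_orderOf_eq_one z
    rw [Subgroup.coe_pow, Subgroup.coe_one, show (2 : ℕ) ^ 2 = 2 * 2 by norm_num, pow_mul, pow_two (m : E), ← hn,
      pow_two, ← (Commute.refl z).mul_zpow, hz2, one_zpow])⟩
  haveI hZn : Z.Normal := hcen ▸ inferInstance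
  have hcomZ : ∀ x y : ↥M, x * y * x⁻¹ * y⁻¹ ∈ Z := fun x y => hmemZ _ (hc (x : E) y)
  have hDle : commutator ↥M ≤ Z := by
    rw [commutator_eq_closure, closure_le]
    rintro _ ⟨x, y, rfl⟩
    exact hcomZ x y
  have hD : commutator ↥M = Z := by
    refine Subgroup.eq_of_le_of_card_ge hDle ?_
    rw [hZcard]
    obtain ⟨x, y, hxy⟩ := hnaM
    have h1 : x * y * x⁻¹ * y⁻¹ ∈ commutator ↥M := by
      rw [← commutatorElement_def]; exact commutator_mem_commutator (mem_top _) (mem_top _)
    have hne : commutator ↥M ≠ ⊥ := fun e => hxy (by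
      rw [e, mem_bot, mul_inv_eq_one, mul_inv_eq_iff_eq_mul] at h1
      exact h1)
    have := Subgroup.one_lt_card_iff_ne_bot _ |>.2 hne
    omega
  have hF : frattini ↥M = Z := le_antisymm
    (Cfsg.Lib.SolvStruct.TwoRank.frattini_le_of_sq Z fun g => hmemZ _ (hsq (g : E)))
    (hD ▸ Cfsg.Lib.PGroups.commutator_le_frattini hP)
  refine ⟨M, ⟨⟨hP, hF.trans hcen.symm, hD.trans hcen.symm⟩, by rw [hcen, hZcard]⟩, ?_⟩
  -- the product
  have hao : orderOf a = 2 := orderOf_eq_prime (by rw [pow_two, ha]) fun e => haz (e ▸ one_mem _)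
  let f : ↥(zpowers a) × ↥M →* E := MonoidHom.noncommCoprod (zpowers a).subtype M.subtype fun x m => by
    obtain ⟨n, hn⟩ := mem_zpowers_iff.1 x.2
    show Commute (x : E) m
    rw [← hn]
    exact (hacomm _).zpow_left n
  have hf : ∀ x m, f (x, m) = (x : E) * m := fun _ _ => rfl
  have hpair : ∀ x : ↥(zpowers a), (x : E) = 1 ∨ (x : E) = a := fun x => by
    obtain ⟨n, hn⟩ := mem_zpowers_iff.1 x.2
    rcases Int.even_or_odd n with ⟨k, rfl⟩ | ⟨k, rfl⟩
    · exact Or.inl (by rw [← hn, zpow_add, ← (Commute.refl a).mul_zpow, ha, one_zpow])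
    · exact Or.inr (by rw [← hn, zpow_add, two_mul, zpow_add, ← (Commute.refl a).mul_zpow, ha, one_zpow, one_mul,
        zpow_one])
  have hinj : Function.Injective f := by
    refine (injective_iff_map_eq_one f).2 ?_
    rintro ⟨x, m⟩ e
    rw [hf] at e
    rcases hpair x with hx | hx
    · rw [hx, one_mul] at e
      exact Prod.ext (Subtype.ext hx) (Subtype.ext e)
    · rw [hx] at e
      exact absurd (by rw [← inv_eq_of_mul_eq_one_left e]; exact inv_mem m.2) haM
  have hsurj : Function.Surjective f := by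
    intro g
    rcases hcov g with h | h
    · exact ⟨(1, ⟨g, h⟩), by rw [hf]; exact one_mul g⟩
    · exact ⟨(⟨a, mem_zpowers a⟩, ⟨a * g, h⟩), by rw [hf]; show a * (a * g) = g; rw [← mul_assoc, ha, one_mul]⟩
  let e₁ : ↥(zpowers a) × ↥M ≃* E := MulEquiv.ofBijective f ⟨hinj, hsurj⟩
  have e₂ : Nonempty (↥(zpowers a) ≃* Multiplicative (ZMod 2)) :=
    ⟨mulEquivOfPrimeCardEq (p := 2) (by rw [Nat.card_zpowers, hao])
      (by rw [Nat.card_congr Multiplicative.toAdd, Nat.card_zmod])⟩
  refine ⟨?_, ?_⟩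
  · rw [← Nat.card_congr e₁.toEquiv, Nat.card_prod, Nat.card_zpowers, hao]
  · obtain ⟨e₂⟩ := e₂
    exact ⟨e₁.symm.trans (MulEquiv.prodCongr e₂ (MulEquiv.refl _))⟩

namespace PairModel

variable [Finite G] {a b : G} {F : Type} [Field F] [Fintype F] {H : HermSpace F (Fin 6 → F)}
  {π : H.SIsom →* ↥(closure (perp D a)) ⧸ center ↥(closure (perp D a))} {vec : G → (Fin 6 → F)}
  {u : Fin 6 → F} (P : PairModel D a b H π vec u)
include P

variable {ψ : ↥(centralizer ({a, b} : Set G)) →* P.space.SIsom} (hψ : P.IsPsi ψ)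
include hψ

/-- A normal subgroup whose part fixing the pair lies in the subgroup lies in it. -/
theorem le_two_of_inf {N : Subgroup G} (hN : ∀ c ∈ centralizer ({a * b} : Set G), ∀ x ∈ N, c * x * c⁻¹ ∈ N)
    (hNC : N ≤ centralizer ({a * b} : Set G))
    (hNK : N ⊓ centralizer ({a, b} : Set G) ≤ pairTwo D a b) : N ≤ pairTwo D a b := fun c hc => by
  refine P.mem_two_of_central hψ (hNC hc) fun k hk => hNK (mem_inf.2 ⟨?_, ?_⟩)
  · rw [show c * k * c⁻¹ * k⁻¹ = c * (k * c⁻¹ * k⁻¹) by group]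
    exact mul_mem hc (hN k (P.m22.pair_le_prod P.ha P.hb hk) _ (inv_mem hc))
  · exact mul_mem (P.pair_normal (hNC hc) hk) (inv_mem hk)

/-- Some generator is moved by a member to one which does not commute with a generator commuting with the first. -/
theorem not_act_trivially {y : G} (hy : y ∈ perp D a ∩ perp D b) :
    ¬ ∀ e ∈ pairTwo D a b, ∃ n : G, (∀ e' ∈ pairTwo D a b, Commute n e') ∧ ∃ e₀ ∈ pairTwo D a b,
      y = n * e₀ := by
  intro hall
  obtain ⟨n, hn, e₀, he₀, hye⟩ := hall 1 (one_mem _)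
  obtain ⟨hcm, -⟩ := P.pairTwo_comm
  -- `y` moves every element inside `⟨a * b⟩`
  have hmove : ∀ g ∈ pairTwo D a b, y * g * y⁻¹ * g⁻¹ ∈ zpowers (a * b) := fun g hg => by
    have h1 : y * g * y⁻¹ = e₀ * g * e₀⁻¹ := by
      rw [hye, show n * e₀ * g * (n * e₀)⁻¹ = n * (e₀ * g * e₀⁻¹) * n⁻¹ by group,
        (hn _ (mul_mem (mul_mem he₀ hg) (inv_mem he₀))).eq, mul_inv_cancel_right]
    rw [h1]
    exact hcm e₀ he₀ g hg
  have hS := P.model.six
  haveI := hS.fd
  -- a component not orthogonal to that of `y`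
  set q : perp2 H (⊤ : Submodule F (Fin 6 → F)) (vec b) u := ⟨_, P.q_mem hy⟩
  have hq0 : q ≠ 0 := fun e => P.q_ne hy (congrArg Subtype.val e)
  have hn' : P.space.NondegOn ⊤ := fun v _ h => P.space.nondeg v fun x => h x Submodule.mem_top
  obtain ⟨r, pr⟩ := exists_pair hn' Submodule.mem_top hq0 (P.q_iso hy)
  set w : Fin 6 → F := (r : Fin 6 → F) with hw
  have hw0 : w ≠ 0 := fun e => pr.swap.ne_zero (Subtype.ext e)
  have hwi : H.h w w = 0 := pr.iso_right
  obtain ⟨M0, hM0, t0, ht0, e0⟩ := P.exists_point r.2 hw0 hwi 0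
  obtain ⟨M1, hM1, t1, ht1, e1⟩ := P.exists_point r.2 hw0 hwi 1
  have hA0 : At H vec D a b u w 0 M0 := ⟨r.2, hM0, t0, ht0, e0⟩
  have hA1 : At H vec D a b u w 1 M1 := ⟨r.2, hM1, t1, ht1, e1⟩
  -- the images
  have hfix : (y * a * y⁻¹ = a ∧ y * b * y⁻¹ = b) ∨ (y * a * y⁻¹ = b ∧ y * b * y⁻¹ = a) :=
    Or.inl ⟨mul_inv_eq_iff_eq_mul.2 hy.1.2.2.symm.eq, mul_inv_eq_iff_eq_mul.2 hy.2.2.2.symm.eq⟩
  obtain ⟨x0, hB0⟩ := P.psi_conj hψ ⟨y, inter_subset_centralizer hy⟩ (w := r) hA0
  obtain ⟨x1, hB1⟩ := P.psi_conj hψ ⟨y, inter_subset_centralizer hy⟩ (w := r) hA1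
  have hrw : ((ψ ⟨y, inter_subset_centralizer hy⟩).1.1 r : Fin 6 → F) = w + (q : Fin 6 → F) := by
    rw [P.psi_member hψ hy, TTUnitary.tv_apply P.space_four (v := q) (P.q_iso hy),
      show P.space.h r q = 1 from pr.flip, one_smul]
    rfl
  rw [hrw] at hB0 hB1
  have hne01 : x1 ≠ x0 := fun e => by
    have e2 := P.at_eq hB1 (e ▸ hB0)
    have e3 : M1 = M0 := mul_left_cancel (mul_right_cancel e2)
    exact one_ne_zero (P.at_inj hA1 (e3 ▸ hA0))
  -- a generator on the first component not commuting with the image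
  have hh : H.h (w + (q : Fin 6 → F)) w = 1 := by
    have hqr : H.h (q : Fin 6 → F) w = 1 := pr.prod
    rw [H.add_left, hwi, hqr, zero_add]
  obtain ⟨β, hβ0, hβ⟩ : ∃ β : F, β ≠ 0 ∧ β ≠ x1 + x0 := by
    have hc4 : Fintype.card F = 4 := by rw [← Nat.card_eq_fintype_card]; exact P.model.four
    classical
    obtain ⟨β, -, hβ⟩ := Finset.exists_mem_notMem_of_card_lt_card (s := ({0, x1 + x0} : Finset F))
      (t := Finset.univ) (by rw [Finset.card_univ, hc4]; exact lt_of_le_of_lt Finset.card_le_two (by norm_num))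
    simp only [Finset.mem_insert, Finset.mem_singleton, not_or] at hβ
    exact ⟨β, hβ.1, hβ.2⟩
  obtain ⟨Mb, hMb, tb, htb, eb⟩ := P.exists_point r.2 hw0 hwi β
  have hAb : At H vec D a b u w β Mb := ⟨r.2, hMb, tb, htb, eb⟩
  set g := M1 * M0 with hg
  set g' := Mb * M0 with hg'
  have hgE : g ∈ pairTwo D a b := subset_closure (Or.inr ⟨_, _, hM1, P.at_mate hA1 hA0, rfl⟩)
  have hg'E : g' ∈ pairTwo D a b := subset_closure (Or.inr ⟨_, _, hMb, P.at_mate hAb hA0, rfl⟩)
  have hgg' : Commute g' g := by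
    refine (P.gen_commute_iff hAb hA0 hA1 hA0 one_ne_zero).2 (Or.inl ?_)
    rw [hwi, zero_mul]
  have hz : Commute (a * b) g' := by
    have h1 := mem_centralizer_pair.1 (pairTwo_le P.hb.2.2 hg'E)
    exact (h1.1.mul_right h1.2).symm
  obtain ⟨m, hm⟩ := mem_zpowers_iff.1 (hmove g hgE)
  have hc : Commute g' (y * g * y⁻¹) := by
    rw [show y * g * y⁻¹ = (y * g * y⁻¹ * g⁻¹) * g by group, ← hm]
    exact (hz.zpow_left m).symm.mul_right hgg'
  have hconj : y * g * y⁻¹ = (y * M1 * y⁻¹) * (y * M0 * y⁻¹) := by rw [hg]; group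
  rw [hconj] at hc
  rcases (P.gen_commute_iff hAb hA0 hB1 hB0 hne01).1 hc with e | e
  · rw [hh, one_mul, add_zero] at e; exact hβ0 e
  · rw [hh, one_mul, add_zero] at e; exact hβ e

/-- The subgroup is self-centralising. -/
theorem centralizer_two_le :
    centralizer ({a * b} : Set G) ⊓ centralizer (pairTwo D a b : Set G) ≤ pairTwo D a b := by
  obtain ⟨-, hker, -⟩ := P.pairTwo_facts hψ
  haveI := P.model.six.fd
  have hF : Fintype.card F = 4 := by rw [← Nat.card_eq_fintype_card]; exact P.model.four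
  obtain ⟨-, -, hsimp, -⟩ := four_space_facts hF P.space_four P.space_dim
  set N := centralizer ({a * b} : Set G) ⊓ centralizer (pairTwo D a b : Set G) with hN
  have hnorm : ∀ c ∈ centralizer ({a * b} : Set G), ∀ x ∈ N, c * x * c⁻¹ ∈ N := fun c hc x hx => by
    obtain ⟨h1, h2⟩ := mem_inf.1 hx
    refine mem_inf.2 ⟨mul_mem (mul_mem hc h1) (inv_mem hc), mem_centralizer_iff.2 fun e he => ?_⟩
    have h3 := P.two_normal hψ (inv_mem hc) he
    rw [inv_inv] at h3
    have h4 := mem_centralizer_iff.1 h2 _ h3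
    calc e * (c * x * c⁻¹) = c * ((c⁻¹ * e * c) * x) * c⁻¹ := by group
      _ = c * (x * (c⁻¹ * e * c)) * c⁻¹ := by rw [h4]
      _ = c * x * c⁻¹ * e := by group
  refine P.le_two_of_inf hψ hnorm inf_le_left fun x hx => ?_
  set N₀ := (N.subgroupOf (centralizer ({a, b} : Set G))).map ψ
  haveI hN₀ : N₀.Normal := by
    refine Subgroup.Normal.map ⟨fun x hx g => ?_⟩ ψ hψ.1
    rw [mem_subgroupOf] at hx ⊢
    exact hnorm _ (P.m22.pair_le_prod P.ha P.hb g.2) _ hx
  rcases hsimp.eq_bot_or_eq_top_of_normal N₀ hN₀ with e | e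
  · rw [hker]
    refine ⟨⟨x, (mem_inf.1 hx).2⟩, ?_, rfl⟩
    exact MonoidHom.mem_ker.2 (mem_bot.1 (e ▸ mem_map_of_mem ψ (mem_subgroupOf.2 (mem_inf.1 hx).1)))
  · exfalso
    obtain ⟨y, hy⟩ := Set.nonempty_of_ncard_ne_zero (s := perp D a ∩ perp D b) (by
      haveI : Fintype ↥(perp D a ∩ perp D b) := Fintype.ofFinite _
      have h1 := P.m22.ncard_one P.ha P.hb
      intro h0
      have h2 : {y : G | y ∈ perp D a ∧ Commute y b} ⊆ insert b (perp D a ∩ perp D b) := by
        rintro y ⟨h3, h4⟩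
        by_cases e' : y = b
        · exact Or.inl e'
        · exact Or.inr ⟨h3, h3.1, e', h4.symm⟩
      have h5 := (Set.ncard_le_ncard h2 (Set.toFinite _)).trans (Set.ncard_insert_le _ _)
      rw [h1, h0] at h5
      omega)
    refine P.not_act_trivially hψ hy fun _ _ => ?_
    obtain ⟨n, hn, en⟩ := (e ▸ mem_top (ψ ⟨y, inter_subset_centralizer hy⟩) :
      ψ ⟨y, inter_subset_centralizer hy⟩ ∈ N₀)
    refine ⟨n, fun e' he' => (mem_centralizer_iff.1 (mem_inf.1 (mem_subgroupOf.1 hn)).2 e' he').symm,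
      (n : G)⁻¹ * y, hker.ge ⟨n⁻¹ * ⟨y, inter_subset_centralizer hy⟩, ?_, rfl⟩, by group⟩
    rw [SetLike.mem_coe, MonoidHom.mem_ker, map_mul, map_inv, en, inv_mul_cancel]

end PairModel

/-- The generalised Fitting subgroup. -/
theorem PairModel.genFitting [Finite G] {a b : G} {F : Type} [Field F] [Fintype F] {H : HermSpace F (Fin 6 → F)}
    {π : H.SIsom →* ↥(closure (perp D a)) ⧸ center ↥(closure (perp D a))} {vec : G → (Fin 6 → F)}
    {u : Fin 6 → F} (P : PairModel D a b H π vec u) :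
    generalizedFittingSubgroup ↥(centralizer ({a * b} : Set G)) =
      (pairTwo D a b).subgroupOf (centralizer ({a * b} : Set G)) := by
  obtain ⟨ψ, hψ⟩ := P.exists_isPsi
  obtain ⟨hcard, hker, -⟩ := P.pairTwo_facts hψ
  haveI := P.model.six.fd
  have hF : Fintype.card F = 4 := by rw [← Nat.card_eq_fintype_card]; exact P.model.four
  obtain ⟨hSU, -, hsimp, hZ⟩ := four_space_facts hF P.space_four P.space_dim
  set C := centralizer ({a * b} : Set G)
  have hKC := P.m22.pair_le_prod P.ha P.hb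
  have hEC : pairTwo D a b ≤ C := (pairTwo_le P.hb.2.2).trans hKC
  set E' := (pairTwo D a b).subgroupOf C with hE'
  haveI hEn : E'.Normal := ⟨fun x hx g => by
    rw [hE', mem_subgroupOf] at hx ⊢
    exact P.two_normal hψ g.2 hx⟩
  haveI : Fact (Nat.Prime 2) := ⟨Nat.prime_two⟩
  have hEp : IsPGroup 2 ↥E' := IsPGroup.of_card (n := 10) (by
    rw [hE', Nat.card_congr (subgroupOfEquivOfLe hEC).toEquiv, hcard])
  have hEF : E' ≤ fittingSubgroup ↥C :=
    Components.le_fitting_of_subnormal hEn.isSubnormal hEp.isNilpotent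
  have hfit : fittingSubgroup ↥C ≤ E' := by
    have hnil : Group.IsNilpotent ↥(fittingSubgroup ↥C) := Components.isNilpotent_fitting
    set N := (fittingSubgroup ↥C).map C.subtype
    have hN : ∀ c ∈ C, ∀ x ∈ N, c * x * c⁻¹ ∈ N := by
      rintro c hc _ ⟨x, hx, rfl⟩
      exact ⟨⟨c, hc⟩ * x * (⟨c, hc⟩ : ↥C)⁻¹, Normal.conj_mem inferInstance x hx _, rfl⟩
    suffices h : N ≤ pairTwo D a b from fun x hx => mem_subgroupOf.2 (h ⟨x, hx, rfl⟩)
    refine P.le_two_of_inf hψ hN (map_subtype_le _) fun x hx => ?_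
    set N₀ := (N.subgroupOf (centralizer ({a, b} : Set G))).map ψ
    haveI hN₀ : N₀.Normal := by
      refine Subgroup.Normal.map ⟨fun x hx g => ?_⟩ ψ hψ.1
      rw [mem_subgroupOf] at hx ⊢
      exact hN _ (hKC g.2) _ hx
    have hnil' : Group.IsNilpotent ↥N₀ := by
      have h1 : Group.IsNilpotent ↥N := Components.isNilpotent_map hnil C.subtype
      have h2 : Group.IsNilpotent ↥(N ⊓ centralizer ({a, b} : Set G)) := Components.isNilpotent_of_le h1 inf_le_left
      have h3 : (N.subgroupOf (centralizer ({a, b} : Set G))).map (centralizer ({a, b} : Set G)).subtype =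
          N ⊓ centralizer ({a, b} : Set G) := subgroupOf_map_subtype _ _
      have h4 : Group.IsNilpotent ↥(N.subgroupOf (centralizer ({a, b} : Set G))) := by
        haveI := h2
        exact Group.nilpotent_of_mulEquiv
          (((N.subgroupOf (centralizer ({a, b} : Set G))).equivMapOfInjective _ (Subgroup.subtype_injective _)).trans
            (MulEquiv.subgroupCongr h3)).symm
      exact Components.isNilpotent_map h4 ψ
    rcases hsimp.eq_bot_or_eq_top_of_normal N₀ hN₀ with e | e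
    · rw [hker]
      exact ⟨⟨x, (mem_inf.1 hx).2⟩, MonoidHom.mem_ker.2 (mem_bot.1 (e ▸ mem_map_of_mem ψ
        (mem_subgroupOf.2 (mem_inf.1 hx).1))), rfl⟩
    · exfalso
      haveI : Group.IsNilpotent P.space.SIsom := by
        haveI := hnil'
        exact Group.nilpotent_of_mulEquiv ((MulEquiv.subgroupCongr e).trans Subgroup.topEquiv)
      haveI : Nontrivial P.space.SIsom := (Finite.one_lt_card_iff_nontrivial).1 (by rw [hSU]; norm_num)
      exact absurd hZ (Group.IsNilpotent.center_ne_bot P.space.SIsom)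
  refine le_antisymm ?_ (hEF.trans Components.fitting_le_genFitting)
  rw [generalizedFittingSubgroup]
  refine sup_le ?_ hfit
  intro x hx
  have h1 : x ∈ centralizer (E' : Set ↥C) := by
    have h2 := (commutator_eq_bot_iff_le_centralizer.mp Components.layer_commute_fitting) hx
    exact mem_centralizer_iff.2 fun e he => mem_centralizer_iff.1 h2 e (hEF he)
  refine mem_subgroupOf.2 (P.centralizer_two_le hψ (mem_inf.2 ⟨x.2, mem_centralizer_iff.2 fun e he => ?_⟩))
  exact congrArg Subtype.val (mem_centralizer_iff.1 h1 ⟨e, hEC he⟩ (mem_subgroupOf.2 he))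

end Cfsg.Lib.ThreeTr
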