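import Cfsg.Agent.ThreeTransposition.M22Count.Pair.Swap
import Cfsg.Agent.ThreeTransposition.M22Count.Bases
import Cfsg.Agent.S0815

/-!
The centraliser of the product of two commuting members: the normal 2-subgroup is self-centralising modulo itself and
the quotient is the full automorphism group of the unitary group in dimension four.
-/

set_option autoImplicit false
set_option linter.unusedSectionVars false
set_option linter.style.haveILetI false

namespace Cfsg.Lib.ThreeTr

open Cfsg Subgroup Cfsg.Lib.Classical Cfsg.Lib.TTUnitary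

attribute [local instance] _root_.Classical.propDecidable

universe u

variable {G : Type u} [Group G] {D : Set G}

/-- The sum of the elements `0, 1, ω, ω + 1` of the field with four elements, through their indices. -/
def addCode : Fin 4 → Fin 4 → Fin 4 := ![![0, 1, 2, 3], ![1, 0, 3, 2], ![2, 3, 0, 1], ![3, 2, 1, 0]]

/-- A permutation of the field with four elements commuting up to translations with an affine map of order three
is even. -/
theorem affine_even : ∀ (σ : Equiv.Perm (Fin 4)) (d s : Fin 4),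
    (∀ x, σ (mulCode 2 (addCode x d)) = addCode (mulCode 2 (addCode (σ x) d)) s) → Equiv.Perm.sign σ = 1 := by
  decide +kernel

/-- A permutation preserving fibres and even on each of them is even. -/
theorem sign_of_fibres {α β : Type*} [Fintype α] [DecidableEq α] [DecidableEq β] (f : α → β) (σ : Equiv.Perm α)
    (hpres : ∀ y, f (σ y) = f y)
    (hev : ∀ B, Equiv.Perm.sign (σ.subtypePerm (p := fun y => f y = B) fun y => by rw [hpres]) = 1) :
    Equiv.Perm.sign σ = 1 := by
  suffices key : ∀ (s : Finset β) (σ : Equiv.Perm α) (hpres : ∀ y, f (σ y) = f y), (∀ y, f y ∉ s → σ y = y) →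
      (∀ B, Equiv.Perm.sign (σ.subtypePerm (p := fun y => f y = B) fun y => by rw [hpres]) = 1) →
      Equiv.Perm.sign σ = 1 from
    key (Finset.univ.image f) σ hpres (fun y hy => absurd (Finset.mem_image_of_mem f (Finset.mem_univ y)) hy) hev
  intro s
  induction s using Finset.induction with
  | empty =>
    intro σ hpres hfix _
    rw [show σ = 1 from Equiv.ext fun y => hfix y (Finset.notMem_empty _), map_one]
  | insert B s hB ih =>
    intro σ hpres hfix hev
    set ρ : Equiv.Perm α := Equiv.Perm.ofSubtype (σ.subtypePerm (p := fun y => f y = B) fun y => by rw [hpres])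
      with hρ
    have hρin : ∀ y, f y = B → ρ y = σ y := fun y hy => by
      rw [hρ, Equiv.Perm.ofSubtype_apply_of_mem (p := fun y => f y = B) _ hy]; rfl
    have hρout : ∀ y, f y ≠ B → ρ y = y := fun y hy => by
      rw [hρ, Equiv.Perm.ofSubtype_apply_of_not_mem (p := fun y => f y = B) _ hy]
    have hval : ∀ y, (ρ⁻¹ * σ) y = if f y = B then y else σ y := fun y => by
      rw [Equiv.Perm.mul_apply]
      split_ifs with hy
      · rw [← hρin y hy, Equiv.Perm.inv_eq_iff_eq]
      · rw [Equiv.Perm.inv_eq_iff_eq, hρout _ (by rwa [hpres])]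
    have hp : ∀ y, f ((ρ⁻¹ * σ) y) = f y := fun y => by
      rw [hval]
      split_ifs with hy
      · rfl
      · exact hpres y
    have h1 := ih (ρ⁻¹ * σ) hp (fun y hy => by
      rw [hval]
      split_ifs with hyB
      · rfl
      · exact hfix y (by rw [Finset.mem_insert, not_or]; exact ⟨hyB, hy⟩)) fun B' => by
      by_cases hBB : B' = B
      · subst hBB
        convert map_one Equiv.Perm.sign
        refine Equiv.ext fun y => Subtype.ext ?_
        show (ρ⁻¹ * σ) y.1 = y.1
        rw [hval, if_pos y.2]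
      · convert hev B' using 2
        refine Equiv.ext fun y => Subtype.ext ?_
        show (ρ⁻¹ * σ) y.1 = σ y.1
        rw [hval, if_neg fun e => hBB (y.2.symm.trans e)]
    rw [map_mul, map_inv, hρ, Equiv.Perm.sign_ofSubtype, hev B, inv_one, one_mul] at h1
    exact h1

namespace PairModel

variable [Finite G] {a b : G} {F : Type} [Field F] [Fintype F] {H : HermSpace F (Fin 6 → F)}
  {π : H.SIsom →* ↥(closure (perp D a)) ⧸ center ↥(closure (perp D a))} {vec : G → (Fin 6 → F)}
  {u : Fin 6 → F} (P : PairModel D a b H π vec u)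
include P

/-- Translations on one six. -/
theorem two_translate {e : G} (he : e ∈ pairTwo D a b) {w : Fin 6 → F} :
    ∃ s : F, ∀ (x : F) (z : G), At H vec D a b u w x z → At H vec D a b u w (x + s) (e * z * e⁻¹) := by
  induction he using closure_induction with
  | mem g hg =>
    rcases hg with (rfl | rfl) | ⟨y, y', hy, hy', rfl⟩
    · refine ⟨0, fun x z hz => ?_⟩
      rw [add_zero, hz.2.1.1.2.2.eq, mul_inv_cancel_right]
      exact hz
    · refine ⟨0, fun x z hz => ?_⟩
      rw [add_zero, hz.2.1.2.2.2.eq, mul_inv_cancel_right]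
      exact hz
    · obtain ⟨β, hb'⟩ := P.mate_coord hy hy'
      exact ⟨_, fun x z hz => P.translate (P.at_self hy) hb' hz⟩
  | one => exact ⟨0, fun x z hz => by rwa [add_zero, one_mul, inv_one, mul_one]⟩
  | mul g g' _ _ hg hg' =>
    obtain ⟨s, hs⟩ := hg
    obtain ⟨s', hs'⟩ := hg'
    refine ⟨s' + s, fun x z hz => ?_⟩
    rw [← add_assoc, show g * g' * z * (g * g')⁻¹ = g * (g' * z * g'⁻¹) * g⁻¹ by group]
    exact hs _ _ (hs' x z hz)
  | inv g hg0 hg =>
    obtain ⟨s, hs⟩ := hg
    refine ⟨s, fun x z hz => ?_⟩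
    obtain ⟨y, hy, t, ht, e⟩ := P.exists_point hz.1 (P.at_ne hz).1 (P.at_ne hz).2 (x + s)
    have h1 := hs (x + s) y ⟨hz.1, hy, t, ht, e⟩
    rw [add_assoc, P.model.six.add_self, add_zero] at h1
    rw [P.at_eq hz h1, show g⁻¹ * (g * y * g⁻¹) * g⁻¹⁻¹ = y by group]
    exact ⟨hz.1, hy, t, ht, e⟩

variable {ψ : ↥(centralizer ({a, b} : Set G)) →* P.space.SIsom} (hψ : P.IsPsi ψ)
include hψ

/-- The subgroup is normal in the centraliser of the product. -/
theorem two_normal {c : G} (hc : c ∈ centralizer ({a * b} : Set G)) {x : G} (hx : x ∈ pairTwo D a b) :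
    c * x * c⁻¹ ∈ pairTwo D a b := by
  have h := P.m22.mem_pair_prod P.ha P.hb hc
  refine (closure_le ((pairTwo D a b).comap (MulAut.conj c).toMonoidHom)).2 ?_ hx
  rintro g ((rfl | rfl) | ⟨y, z, hy, hz, rfl⟩)
  · rcases h with ⟨e1, -⟩ | ⟨e1, -⟩ <;>
      simp only [SetLike.mem_coe, mem_comap, MulEquiv.coe_toMonoidHom, MulAut.conj_apply, e1] <;>
      exact subset_closure (Or.inl (by simp))
  · rcases h with ⟨-, e2⟩ | ⟨-, e2⟩ <;>
      simp only [SetLike.mem_coe, mem_comap, MulEquiv.coe_toMonoidHom, MulAut.conj_apply, e2] <;>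
      exact subset_closure (Or.inl (by simp))
  · simp only [SetLike.mem_coe, mem_comap, MulEquiv.coe_toMonoidHom, MulAut.conj_apply]
    exact subset_closure (Or.inr ⟨_, _, mem_inter_conj P.m22.cls c h hy, mate_conj P.m22.cls c h hz, by group⟩)

omit hψ in
theorem pair_normal {c k : G} (hc : c ∈ centralizer ({a * b} : Set G)) (hk : k ∈ centralizer ({a, b} : Set G)) :
    c * k * c⁻¹ ∈ centralizer ({a, b} : Set G) := by
  obtain ⟨hka, hkb⟩ := mem_centralizer_pair.1 hk
  rw [mem_centralizer_pair]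
  rcases P.m22.mem_pair_prod P.ha P.hb hc with ⟨e1, e2⟩ | ⟨e1, e2⟩
  · exact ⟨e1 ▸ (conj_commute_iff c k a).2 hka, e2 ▸ (conj_commute_iff c k b).2 hkb⟩
  · exact ⟨e2 ▸ (conj_commute_iff c k b).2 hkb, e1 ▸ (conj_commute_iff c k a).2 hka⟩

/-- An element centralising the joint centraliser modulo the subgroup fixes every six. -/
theorem fix_six {c : G} (hc : c ∈ centralizer ({a * b} : Set G))
    (hcK : ∀ k ∈ centralizer ({a, b} : Set G), c * k * c⁻¹ * k⁻¹ ∈ pairTwo D a b) {y : G}
    (hy : y ∈ perp D a ∩ perp D b) : Mate D a b y (c * y * c⁻¹) := by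
  obtain ⟨-, hker, -⟩ := P.pairTwo_facts hψ
  have hy' := mem_inter_conj P.m22.cls c (P.m22.mem_pair_prod P.ha P.hb hc) hy
  have h1 := hcK y (inter_subset_centralizer hy)
  rw [hker] at h1
  obtain ⟨k, hk, e⟩ := h1
  have h2 : (⟨c * y * c⁻¹, inter_subset_centralizer hy'⟩ : ↥(centralizer ({a, b} : Set G))) =
      k * ⟨y, inter_subset_centralizer hy⟩ := Subtype.ext (by
    show c * y * c⁻¹ = (centralizer ({a, b} : Set G)).subtype k * y
    rw [e, inv_mul_cancel_right])
  have h3 := congrArg ψ h2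
  rw [map_mul, MonoidHom.mem_ker.1 hk, one_mul, P.psi_member hψ hy', P.psi_member hψ hy] at h3
  refine (P.mate_iff hy).2 ⟨hy', ?_⟩
  set q : perp2 H (⊤ : Submodule F (Fin 6 → F)) (vec b) u := ⟨_, P.q_mem hy⟩
  set q' : perp2 H (⊤ : Submodule F (Fin 6 → F)) (vec b) u := ⟨_, P.q_mem hy'⟩
  haveI := P.model.six.fd
  obtain ⟨x, hx⟩ := P.space.exists_partner (v := q') (fun e => P.q_ne hy' (congrArg Subtype.val e))
  have hx' : P.space.h x q' = 1 := by rw [P.space.symm, hx, map_one]
  have h4 := congrArg (fun t : P.space.SIsom => t.1.1 x) h3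
  simp only [TTUnitary.tv_apply P.space_four (v := q') (P.q_iso hy'),
    TTUnitary.tv_apply P.space_four (v := q) (P.q_iso hy), hx', one_smul, add_right_inj] at h4
  exact ⟨P.space.h x q, fun e0 => P.q_ne hy' (congrArg Subtype.val (h4.trans (by rw [e0, zero_smul]))),
    congrArg Subtype.val h4⟩

/-- For a nonzero isotropic vector some element of the special group multiplies it by a given scalar. -/
theorem exists_scale {w : perp2 H (⊤ : Submodule F (Fin 6 → F)) (vec b) u} (hw0 : w ≠ 0) (hw : P.space.h w w = 0)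
    {c : F} (hc : c ≠ 0) : ∃ k : ↥(centralizer ({a, b} : Set G)), (ψ k).1.1 w = c • w := by
  haveI := P.model.six.fd
  have h4 := P.space_four
  obtain ⟨g₀, hg₀⟩ := P.space.transitive_isotropic hw0 (smul_ne_zero hc hw0) hw
    (by rw [h4.h_smul_smul hc, hw])
  have hn : P.space.NondegOn ⊤ := fun v _ h => P.space.nondeg v fun x => h x Submodule.mem_top
  obtain ⟨w', p⟩ := exists_pair hn Submodule.mem_top hw0 hw
  have hn1 := p.nondeg h4 hn
  have hd1 : Module.finrank F (perp2 P.space ⊤ w w') = 2 := by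
    have := p.finrank h4
    rw [finrank_top, P.space_dim] at this
    omega
  obtain ⟨e, heW, he1⟩ := exists_unit hn1 (by omega)
  obtain ⟨-, hew, -⟩ := mem_perp2.mp heW
  set z : (normUnits P.space.σ).ker := ⟨P.space.detHom g₀, P.space.det_mem_norm_ker g₀⟩ with hz
  set g := g₀ * (P.space.qrefl he1 z)⁻¹ with hg
  have hgS : g ∈ P.space.SIsom := by
    show P.space.detHom g = 1
    rw [hg, map_mul, map_inv,
      show P.space.detHom (P.space.qrefl he1 z) = (z.1 : Fˣ) from P.space.det_qrefl he1 z]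
    exact mul_inv_cancel _
  have hfix : (P.space.qrefl he1 z).1 w = w := P.space.qrefl_orth he1 z (P.space.eq_zero_symm hew)
  have hgw : g.1 w = c • w := by
    have h1 := P.space.inv_apply_self (P.space.qrefl he1 z) w
    rw [hfix] at h1
    rw [hg, HermSpace.mul_apply', h1, hg₀]
  obtain ⟨k, hk⟩ := hψ.1 ⟨g, hgS⟩
  exact ⟨k, by rw [hk]; exact hgw⟩

set_option maxHeartbeats 800000 in
/-- Such an element acts evenly. -/
theorem act_even {act : ↥(centralizer ({a * b} : Set G)) →* Equiv.Perm ↥(perp D a ∩ perp D b)}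
    (hact : ∀ c x, ((act c x : ↥(perp D a ∩ perp D b)) : G) = (c : G) * x * (c : G)⁻¹)
    [Fintype ↥(perp D a ∩ perp D b)] [DecidableEq ↥(perp D a ∩ perp D b)]
    (c : ↥(centralizer ({a * b} : Set G)))
    (hcK : ∀ k ∈ centralizer ({a, b} : Set G), (c : G) * k * (c : G)⁻¹ * k⁻¹ ∈ pairTwo D a b) :
    Equiv.Perm.sign (act c) = 1 := by
  classical
  have hS := P.model.six
  set f : ↥(perp D a ∩ perp D b) → Set G := fun y => {z | Mate D a b y z} with hf
  have hmate : ∀ y z : ↥(perp D a ∩ perp D b), f y = f z ↔ Mate D a b y z := fun y z => by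
    constructor
    · intro e
      have : (z : G) ∈ f z := P.at_mate (P.at_self z.2) (P.at_self z.2)
      rw [← e] at this
      exact this
    · intro hm
      obtain ⟨-, k, hk, e⟩ := (P.mate_iff y.2).1 hm
      ext o
      simp only [hf, Set.mem_ofPred_eq, P.mate_iff y.2, P.mate_iff z.2, e]
      refine and_congr_right fun _ => ⟨fun ⟨l, hl, el⟩ => ⟨l * k⁻¹, mul_ne_zero hl (inv_ne_zero hk), ?_⟩,
        fun ⟨l, hl, el⟩ => ⟨l * k, mul_ne_zero hl hk, ?_⟩⟩
      · rw [el, smul_smul, inv_mul_cancel_right₀ hk]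
      · rw [el, smul_smul]
  have hpres : ∀ y, f (act c y) = f y := fun y => ((hmate y (act c y)).2 (by
    rw [hact]; exact P.fix_six hψ c.2 hcK y.2)).symm
  refine sign_of_fibres f (act c) hpres fun B => ?_
  let R : ∀ B : Set G, Equiv.Perm {y // f y = B} := fun B => (act c).subtypePerm fun y => by rw [hpres]
  show Equiv.Perm.sign (R B) = 1
  by_cases hB : ∃ y, f y = B
  swap
  · haveI : IsEmpty {y // f y = B} := ⟨fun y => hB ⟨y.1, y.2⟩⟩
    rw [Subsingleton.elim (R B) 1, map_one]
  obtain ⟨y₀, hy₀⟩ := hB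
  -- coordinates on the six
  set w := IsSixSpace.proj H (vec b) u (vec (y₀ : G)) with hw
  have hwm := P.q_mem y₀.2
  have hpt : ∀ x : F, ∃ z : {y // f y = B}, At H vec D a b u w x ((z : ↥(perp D a ∩ perp D b)) : G) := fun x => by
    obtain ⟨z, hz, e'⟩ := P.exists_point hwm (P.q_ne y₀.2) (P.q_iso y₀.2) x
    exact ⟨⟨⟨z, hz⟩, hy₀ ▸ ((hmate y₀ ⟨z, hz⟩).2 (P.at_mate (P.at_self y₀.2) ⟨hwm, hz, e'⟩)).symm⟩,
      hwm, hz, e'⟩
  choose M hM using hpt
  obtain ⟨ω, hω⟩ := H.conj.exists_trace_one
  have hω0 : ω ≠ 0 := fun e => by rw [e, map_zero, zero_add] at hω; exact zero_ne_one hω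
  have hω1 : ω ≠ 1 := fun e => by rw [e, map_one, hS.add_self] at hω; exact zero_ne_one hω
  have hσω : H.σ ω = ω + 1 := by linear_combination hω - ω * hS.two
  have hωω : ω * ω = ω + 1 := by
    have := hS.norm ω hω0
    rw [hσω] at this
    linear_combination this - ω * hS.two
  have hω10 : ω + 1 ≠ 0 := fun e => hω1 (by linear_combination e - hS.two)
  let val : Fin 4 → F := ![0, 1, ω, ω + 1]
  have hval : ∀ x y, val x * val y = val (mulCode x y) := by
    intro x y
    fin_cases x <;> fin_cases y <;> simp [val, mulCode, hωω] <;>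
      first
        | linear_combination hωω + ω * hS.two
        | linear_combination hωω + (ω + 1) * hS.two
  have hadd : ∀ x y, val x + val y = val (addCode x y) := by
    intro x y
    fin_cases x <;> fin_cases y <;> simp [val, addCode, hS.add_self] <;>
      first
        | linear_combination hS.two
        | linear_combination ω * hS.two
        | linear_combination (ω + 1) * hS.two
        | ring
  have hωω1 : ω + 1 ≠ 1 := fun e => hω0 (by linear_combination e)
  have hωω2 : ω + 1 ≠ ω := fun e => one_ne_zero (α := F) (by linear_combination e)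
  have hvalbij : Function.Bijective val := by
    refine (Fintype.bijective_iff_injective_and_card _).2 ⟨?_, by
      rw [Fintype.card_fin, ← Nat.card_eq_fintype_card, P.model.four]⟩
    intro x y e
    fin_cases x <;> fin_cases y <;>
      simp [val, hω0, hω1, hω10, hωω1, hωω2, Ne.symm hω0, Ne.symm hω1, Ne.symm hω10, Ne.symm hωω1,
        Ne.symm hωω2] at e ⊢
  have hMbij : Function.Bijective fun i => M (val i) := by
    constructor
    · intro i j e
      have h' := hM (val i)
      rw [show M (val i) = M (val j) from e] at h'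
      exact hvalbij.1 (P.at_inj h' (hM (val j)))
    · intro z
      obtain ⟨β, hβ⟩ := P.mate_coord y₀.2 ((hmate y₀ z.1).1 (hy₀.trans z.2.symm))
      obtain ⟨i, rfl⟩ := hvalbij.2 β
      exact ⟨i, Subtype.ext (Subtype.ext (P.at_eq (hM (val i)) hβ))⟩
  set η := (Equiv.ofBijective _ hMbij) with hη
  set σ : Equiv.Perm (Fin 4) := η.trans ((R B).trans η.symm) with hσ
  rw [← Equiv.Perm.sign_eq_sign_of_equiv σ (R B) η (fun i => by simp [hσ])]
  have hσat : ∀ i, At H vec D a b u w (val (σ i)) ((c : G) * ((M (val i)).1 : G) * (c : G)⁻¹) := fun i => by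
    have h1 : η (σ i) = R B (η i) := by simp [hσ]
    have h2 := hM (val (σ i))
    rw [show M (val (σ i)) = R B (M (val i)) from h1] at h2
    rw [← hact]
    exact h2
  -- an element rotating the six
  obtain ⟨k, hk⟩ := P.exists_scale hψ (w := ⟨w, hwm⟩) (fun e => P.q_ne y₀.2 (congrArg Subtype.val e))
    (P.q_iso y₀.2) (inv_ne_zero hω0)
  obtain ⟨g, hg, hkm, hgk, hform⟩ := hψ.2 k
  set d := H.h (g.1.1 w) u
  have hrot : ∀ (x : F) (z : G), At H vec D a b u w x z →
      At H vec D a b u w (ω * (x + d)) ((k : G) * z * (k : G)⁻¹) := by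
    rintro x z ⟨hwm', hzP, t, ht, e'⟩
    have hk2 := mem_centralizer_pair.1 k.2
    obtain ⟨l, hl, hle⟩ := P.conj_vec hkm hgk hzP.1
    refine ⟨hwm, mem_inter_conj P.m22.cls k
      (Or.inl ⟨mul_inv_eq_iff_eq_mul.2 hk2.1.eq, mul_inv_eq_iff_eq_mul.2 hk2.2.eq⟩) hzP, ω * (t * l),
      mul_ne_zero hω0 (mul_ne_zero ht hl), ?_⟩
    have h1 : IsSixSpace.proj H (vec b) u (g.1.1 w) = ω⁻¹ • w := by
      have := hform ⟨w, hwm⟩
      rw [hk] at this
      exact this.symm
    have h2 : g.1.1 w = ω⁻¹ • w + d • vec b := by rw [← h1, hS.proj_cancel]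
    rw [mul_smul ω (t * l), mul_smul t l, ← hle, ← map_smul, ← e', map_add, map_smul, hS.pointGroup_fix hg, h2]
    rw [mul_smul]
    simp only [smul_add, smul_smul, mul_inv_cancel₀ hω0, one_smul, add_smul]
    abel
  obtain ⟨s, hs⟩ := P.two_translate (hcK k k.2) (w := w)
  obtain ⟨d', hd'⟩ := hvalbij.2 d
  obtain ⟨s', hs'⟩ := hvalbij.2 s
  refine affine_even σ d' s' fun x => hvalbij.1 ?_
  rw [← hadd, ← hval, ← hadd, hd', hs', show val 2 = ω from rfl]
  have h1 := hs _ _ (hrot _ _ (hσat x))
  have h2 := hrot _ _ (hM (val x))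
  rw [← hd', ← show val 2 = ω from rfl, hadd, hval] at h2
  have h3 := hσat (mulCode 2 (addCode x d'))
  rw [P.at_eq (hM _) h2] at h3
  refine P.at_inj h3 ?_
  convert h1 using 1
  group

set_option maxHeartbeats 800000 in
/-- The centraliser of the joint centraliser modulo the subgroup. -/
theorem mem_two_of_central {c : G} (hc : c ∈ centralizer ({a * b} : Set G))
    (hcK : ∀ k ∈ centralizer ({a, b} : Set G), c * k * c⁻¹ * k⁻¹ ∈ pairTwo D a b) : c ∈ pairTwo D a b := by
  haveI := P.model.six.fd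
  have hF : Fintype.card F = 4 := by rw [← Nat.card_eq_fintype_card]; exact P.model.four
  obtain ⟨-, -, -, hZ⟩ := four_space_facts hF P.space_four P.space_dim
  obtain ⟨-, hker, -⟩ := P.pairTwo_facts hψ
  by_cases hcp : c ∈ centralizer ({a, b} : Set G)
  · have h1 : ψ ⟨c, hcp⟩ ∈ center P.space.SIsom := mem_center_iff.2 fun y => by
      obtain ⟨k, rfl⟩ := hψ.1 y
      obtain ⟨e, he, he'⟩ := hker.le (hcK k k.2)
      have h2 : e = ⟨c, hcp⟩ * k * ⟨c, hcp⟩⁻¹ * k⁻¹ := Subtype.ext he'
      rw [SetLike.mem_coe, MonoidHom.mem_ker, h2, map_mul, map_mul, map_mul, map_inv, map_inv,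
        mul_inv_eq_one, mul_inv_eq_iff_eq_mul] at he
      exact he.symm
    rw [hZ, mem_bot] at h1
    rw [hker]
    exact ⟨_, h1, rfl⟩
  · exfalso
    classical
    haveI : Fintype ↥(perp D a ∩ perp D b) := Fintype.ofFinite _
    obtain ⟨act, hact⟩ := P.m22.exists_act P.ha P.hb
    obtain ⟨heven, σ, hσa, hσodd⟩ := P.m22.sign_facts P.ha P.hb hact
    have hswap : ∀ {g : G}, g ∈ centralizer ({a * b} : Set G) → g ∉ centralizer ({a, b} : Set G) →
        g * a * g⁻¹ = b ∧ g * b * g⁻¹ = a := fun {g} hg hn => by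
      rcases P.m22.mem_pair_prod P.ha P.hb hg with ⟨e1, e2⟩ | e
      · exact absurd (mem_centralizer_pair.2 ⟨mul_inv_eq_iff_eq_mul.1 e1, mul_inv_eq_iff_eq_mul.1 e2⟩) hn
      · exact e
    have hσn : (σ : G) ∉ centralizer ({a, b} : Set G) := fun hh => by
      rw [(mem_centralizer_pair.1 hh).1.eq, mul_inv_cancel_right] at hσa
      exact P.hb.2.1 hσa.symm
    obtain ⟨c1, c2⟩ := hswap hc hcp
    obtain ⟨s1, s2⟩ := hswap σ.2 hσn
    have hk : ((⟨c, hc⟩ * σ : ↥(centralizer ({a * b} : Set G))) : G) ∈ centralizer ({a, b} : Set G) := by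
      rw [Subgroup.coe_mul, mem_centralizer_pair]
      constructor
      · exact mul_inv_eq_iff_eq_mul.1 (show c * σ * a * (c * σ)⁻¹ = a by
          rw [show c * σ * a * (c * σ)⁻¹ = c * (σ * a * (σ : G)⁻¹) * c⁻¹ by group, s1, c2])
      · exact mul_inv_eq_iff_eq_mul.1 (show c * σ * b * (c * σ)⁻¹ = b by
          rw [show c * σ * b * (c * σ)⁻¹ = c * (σ * b * (σ : G)⁻¹) * c⁻¹ by group, s2, c1])
    have h1 := heven _ hk
    have h2 := P.act_even hψ hact ⟨c, hc⟩ hcK
    rw [map_mul, map_mul, hσodd] at h1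
    have h3 : Equiv.Perm.sign (act ⟨c, hc⟩) = -1 := by
      rw [mul_neg, mul_one, neg_eq_iff_eq_neg] at h1
      convert h1 using 3
    have h4 : (1 : ℤˣ) = -1 := by
      refine h2.symm.trans ?_
      convert h3 using 3
    exact absurd h4 (by decide)

end PairModel

end Cfsg.Lib.ThreeTr
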