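import Cfsg.Agent.ThreeTransposition.M22Count.Centraliser
import Cfsg.Agent.ThreeTransposition.M22Count.Pair.Quotient

/-!
Two commuting members `a`, `b` of a class of type M(22): the members commuting with both as isotropic vectors
`x • v + q`, with `v` the vector of `b` and `q` in the complement of a pair at `v`.
-/

set_option autoImplicit false
set_option linter.unusedSectionVars false
set_option linter.style.haveILetI false

namespace Cfsg.Lib.ThreeTr

open Cfsg Subgroup Cfsg.Lib.Classical Cfsg.Lib.TTUnitary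

universe u

variable {G : Type u} [Group G] {D : Set G}

/-- Two commuting members, a model at the first one and a pair at the vector of the second one. -/
structure PairModel (D : Set G) (a b : G) {F : Type} [Field F] (H : HermSpace F (Fin 6 → F))
    (π : H.SIsom →* ↥(closure (perp D a)) ⧸ center ↥(closure (perp D a))) (vec : G → (Fin 6 → F))
    (u : Fin 6 → F) : Prop where
  m22 : M22 D
  ha : a ∈ D
  hb : b ∈ perp D a
  model : IsModel D a H π vec
  pair : Pair H ⊤ (vec b) u

theorem M22.exists_pairModel [Finite G] (h : M22 D) {a b : G} (ha : a ∈ D) (hb : b ∈ perp D a) :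
    ∃ (F : Type) (_ : Field F) (_ : Fintype F) (H : HermSpace F (Fin 6 → F))
      (π : H.SIsom →* ↥(closure (perp D a)) ⧸ center ↥(closure (perp D a))) (vec : G → (Fin 6 → F))
      (u : Fin 6 → F), PairModel D a b H π vec u := by
  obtain ⟨F, _, _, H, π, vec, hM⟩ := h.exists_model ha
  obtain ⟨u, p⟩ := hM.six.exists_top_pair (hM.vec_ne b hb) (hM.vec_iso b hb)
  exact ⟨F, inferInstance, inferInstance, H, π, vec, u, h, ha, hb, hM, p⟩

/-- `z` lies in the six through `a`, `b`, `y`, outside `a` and `b`. -/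
def Mate (D : Set G) (a b y z : G) : Prop :=
  z ∈ perp D a ∩ perp D b ∧ z ∈ tperp D a b y

namespace PairModel

variable [Finite G] {a b : G} {F : Type} [Field F] [Fintype F] {H : HermSpace F (Fin 6 → F)}
  {π : H.SIsom →* ↥(closure (perp D a)) ⧸ center ↥(closure (perp D a))} {vec : G → (Fin 6 → F)}
  {u : Fin 6 → F} (P : PairModel D a b H π vec u)
include P

/-- The hermitian space on the complement. -/
noncomputable def space : HermSpace F (perp2 H (⊤ : Submodule F (Fin 6 → F)) (vec b) u) :=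
  H.restrict _ (P.model.six.nondeg' P.pair)

theorem space_four : Four P.space := ⟨P.model.six.two, P.model.six.norm⟩

theorem space_dim : Module.finrank F (perp2 H (⊤ : Submodule F (Fin 6 → F)) (vec b) u) = 4 := by
  haveI := P.model.six.fd
  exact (P.model.six.perp2_top P.model.four P.pair).1

theorem mem_iff {y : G} : y ∈ perp D a ∩ perp D b ↔ y ∈ perp D a ∧ y ≠ b ∧ H.h (vec y) (vec b) = 0 := by
  constructor
  · rintro ⟨h1, h2⟩
    exact ⟨h1, h2.2.1, (P.model.comm_iff P.m22 P.ha h1 P.hb).1 h2.2.2.symm⟩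
  · rintro ⟨h1, h2, h3⟩
    exact ⟨h1, h1.1, h2, ((P.model.comm_iff P.m22 P.ha h1 P.hb).2 h3).symm⟩

theorem orth {y : G} (hy : y ∈ perp D a ∩ perp D b) : H.h (vec y) (vec b) = 0 := (P.mem_iff.1 hy).2.2

theorem q_mem {y : G} (hy : y ∈ perp D a ∩ perp D b) :
    IsSixSpace.proj H (vec b) u (vec y) ∈ perp2 H ⊤ (vec b) u := P.model.six.proj_mem' P.pair (P.orth hy)

theorem q_form {y z : G} (hy : y ∈ perp D a ∩ perp D b) (hz : z ∈ perp D a ∩ perp D b) :
    H.h (IsSixSpace.proj H (vec b) u (vec y)) (IsSixSpace.proj H (vec b) u (vec z)) = H.h (vec y) (vec z) :=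
  P.model.six.proj_form P.pair (P.orth hy) (P.orth hz)

theorem q_iso {y : G} (hy : y ∈ perp D a ∩ perp D b) :
    H.h (IsSixSpace.proj H (vec b) u (vec y)) (IsSixSpace.proj H (vec b) u (vec y)) = 0 := by
  rw [P.q_form hy hy, P.model.vec_iso y hy.1]

theorem q_ne {y : G} (hy : y ∈ perp D a ∩ perp D b) : IsSixSpace.proj H (vec b) u (vec y) ≠ 0 := by
  intro e
  rw [IsSixSpace.proj] at e
  exact hy.2.2.1 (P.model.eq_of_prop P.m22 P.ha hy.1 P.hb (P.model.six.toFour.eq_of_vadd e))

theorem comm_q {y z : G} (hy : y ∈ perp D a ∩ perp D b) (hz : z ∈ perp D a ∩ perp D b) :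
    Commute y z ↔ H.h (IsSixSpace.proj H (vec b) u (vec y)) (IsSixSpace.proj H (vec b) u (vec z)) = 0 := by
  rw [P.q_form hy hz, P.model.comm_iff P.m22 P.ha hy.1 hz.1]

/-- Every `w + x • v` with `w` isotropic and nonzero in the complement belongs to a member. -/
theorem exists_point {w : Fin 6 → F} (hw : w ∈ perp2 H ⊤ (vec b) u) (hw0 : w ≠ 0) (hww : H.h w w = 0) (x : F) :
    ∃ z ∈ perp D a ∩ perp D b, ∃ t : F, t ≠ 0 ∧ w + x • vec b = t • vec z := by
  obtain ⟨-, hwv, hwu⟩ := mem_perp2.mp hw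
  have hiso : H.h (w + x • vec b) (w + x • vec b) = 0 := by
    simp only [H.add_left, H.add_right, H.smul_left, H.smul_right, hww, hwv, H.eq_zero_symm hwv,
      P.model.vec_iso b P.hb, mul_zero, add_zero]
  have hproj : IsSixSpace.proj H (vec b) u (w + x • vec b) = w := by
    rw [P.model.six.proj_add, P.model.six.proj_smul, P.model.six.proj_self P.pair, smul_zero, add_zero,
      P.model.six.proj_of_perp hwu]
  have hne : w + x • vec b ≠ 0 := fun e => hw0 (by
    rw [← hproj, e, IsSixSpace.proj, H.zero_left, zero_smul, add_zero])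
  obtain ⟨z, hz, t, ht, e⟩ := P.model.cover _ hne hiso
  refine ⟨z, P.mem_iff.2 ⟨hz, fun ezb => hw0 ?_, ?_⟩, t, ht, e⟩
  · subst ezb
    rw [← hproj, e, P.model.six.proj_smul, P.model.six.proj_self P.pair, smul_zero]
  · have h1 : H.h (w + x • vec b) (vec b) = 0 := by
      rw [H.add_left, H.smul_left, hwv, P.model.vec_iso b P.hb, mul_zero, add_zero]
    rw [e, H.smul_left, mul_eq_zero, or_iff_right ht] at h1
    exact h1

theorem point_q {w : Fin 6 → F} (hw : w ∈ perp2 H ⊤ (vec b) u) {x t : F} {z : G}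
    (e : w + x • vec b = t • vec z) : w = t • IsSixSpace.proj H (vec b) u (vec z) := by
  rw [← P.model.six.proj_smul, ← e, P.model.six.proj_add, P.model.six.proj_smul, P.model.six.proj_self P.pair,
    smul_zero, add_zero, P.model.six.proj_of_perp (mem_perp2.mp hw).2.2]

theorem point_unique {w : Fin 6 → F} {x t t' : F} {z z' : G} (hz : z ∈ perp D a) (hz' : z' ∈ perp D a) (ht : t ≠ 0)
    (e : w + x • vec b = t • vec z) (e' : w + x • vec b = t' • vec z') : z = z' :=
  P.model.eq_of_prop P.m22 P.ha hz hz' (a := t⁻¹ * t') (by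
    rw [mul_smul, ← e', e, smul_smul, inv_mul_cancel₀ ht, one_smul])

/-- Orthogonal to everything orthogonal to an isotropic vector of the complement. -/
theorem line_eq {q r : perp2 H (⊤ : Submodule F (Fin 6 → F)) (vec b) u} (hq0 : q ≠ 0) (hq : P.space.h q q = 0)
    (hrq : P.space.h r q = 0)
    (hall : ∀ w, P.space.h w w = 0 → P.space.h w q = 0 → P.space.h w r = 0) : ∃ c : F, r = c • q := by
  have h4 := P.space_four
  have hn : P.space.NondegOn ⊤ := fun v _ h => P.space.nondeg v fun x => h x Submodule.mem_top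
  obtain ⟨q', p⟩ := exists_pair hn Submodule.mem_top hq0 hq
  have hn1 := p.nondeg h4 hn
  have hd1 : Module.finrank F (perp2 P.space ⊤ q q') = 2 := by
    have := p.finrank h4
    rw [finrank_top, P.space_dim] at this
    omega
  obtain ⟨s, hsW, hs0, hs⟩ := exists_iso hn1 hd1.ge
  obtain ⟨s', p'⟩ := exists_pair hn1 hsW hs0 hs
  have hd2 : Module.finrank F (perp2 P.space (perp2 P.space ⊤ q q') s s') = 0 := by
    have := p'.finrank h4
    omega
  obtain ⟨-, hsq, hsq'⟩ := mem_perp2.mp hsW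
  obtain ⟨-, hs'q, hs'q'⟩ := mem_perp2.mp p'.mem_right
  have hy := p.proj_mem h4 (x := r) Submodule.mem_top
  rw [hrq, zero_smul, add_zero] at hy
  have hys : P.space.h (r + P.space.h r q' • q) s = 0 := by
    rw [P.space.add_left, P.space.smul_left, P.space.eq_zero_symm hsq, mul_zero, add_zero]
    exact P.space.eq_zero_symm (hall s hs hsq)
  have hys' : P.space.h (r + P.space.h r q' • q) s' = 0 := by
    rw [P.space.add_left, P.space.smul_left, P.space.eq_zero_symm hs'q, mul_zero, add_zero]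
    exact P.space.eq_zero_symm (hall s' p'.iso_right hs'q)
  have hmem : r + P.space.h r q' • q ∈ perp2 P.space (perp2 P.space ⊤ q q') s s' := mem_perp2.mpr ⟨hy, hys, hys'⟩
  rw [Submodule.finrank_eq_zero] at hd2
  rw [hd2, Submodule.mem_bot] at hmem
  exact ⟨_, h4.eq_of_vadd hmem⟩

theorem mate_iff {y z : G} (hy : y ∈ perp D a ∩ perp D b) :
    Mate D a b y z ↔ z ∈ perp D a ∩ perp D b ∧
      ∃ c : F, c ≠ 0 ∧ IsSixSpace.proj H (vec b) u (vec z) = c • IsSixSpace.proj H (vec b) u (vec y) := by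
  refine and_congr_right fun hz => ⟨fun ht => ?_, fun ⟨c, hc, e⟩ => ⟨hz.1.1, fun e' he h1 h2 h3 => ?_⟩⟩
  · have hyz : Commute y z := ht.2 y hy.1.1 hy.1.2.2.symm hy.2.2.2.symm (Commute.refl y)
    obtain ⟨c, hc⟩ : ∃ c : F, (⟨_, P.q_mem hz⟩ : perp2 H (⊤ : Submodule F (Fin 6 → F)) (vec b) u) =
        c • ⟨_, P.q_mem hy⟩ := by
      refine P.line_eq (fun e => P.q_ne hy (congrArg Subtype.val e)) (P.q_iso hy) ((P.comm_q hz hy).1 hyz.symm)
        fun w hw hwy => ?_
      show H.h (w : Fin 6 → F) _ = 0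
      rcases eq_or_ne w 0 with hw0 | hw0
      · rw [hw0, Submodule.coe_zero, H.zero_left]
      obtain ⟨e, he, t, ht0, heq⟩ := P.exists_point w.2 (fun e0 => hw0 (Subtype.ext e0)) hw 0
      have hq := P.point_q w.2 heq
      have hey : Commute e y := (P.comm_q he hy).2 (by
        have h1 : H.h (w : Fin 6 → F) (IsSixSpace.proj H (vec b) u (vec y)) = 0 := hwy
        rwa [hq, H.smul_left, mul_eq_zero, or_iff_right ht0] at h1)
      rw [hq, H.smul_left, (P.comm_q he hz).1 (ht.2 e he.1.1 he.1.2.2.symm he.2.2.2.symm hey), mul_zero]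
    have e : IsSixSpace.proj H (vec b) u (vec z) = c • IsSixSpace.proj H (vec b) u (vec y) :=
      congrArg Subtype.val hc
    exact ⟨c, fun c0 => P.q_ne hz (by rw [e, c0, zero_smul]), e⟩
  · by_cases ea : e' = a
    · exact ea ▸ hz.1.2.2
    by_cases eb : e' = b
    · exact eb ▸ hz.2.2.2
    have he' : e' ∈ perp D a ∩ perp D b := ⟨⟨he, ea, h1.symm⟩, he, eb, h2.symm⟩
    rw [P.comm_q he' hz, e, H.smul_right, (P.comm_q he' hy).1 h3, mul_zero]

/-- The preimage in the group at `v` of an element commuting with `a` and `b`. -/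
theorem exists_lift {k : G} (hka : Commute k a) (hkb : Commute k b) :
    ∃ g ∈ P.model.six.pointGroup (vec b), ∃ hk : k ∈ closure (perp D a),
      π g = QuotientGroup.mk (⟨k, hk⟩ : ↥(closure (perp D a))) := by
  have hS := P.model.six
  have hk : k ∈ closure (perp D a) := by
    rw [← P.m22.centralizer_eq P.ha, mem_centralizer_singleton_iff]
    exact hka.eq
  set B : ↥(closure (perp D a)) := ⟨b, subset_closure P.hb⟩
  obtain ⟨γ, hγ⟩ := P.model.surj (QuotientGroup.mk (⟨k, hk⟩ : ↥(closure (perp D a))))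
  have hv := P.model.vec_iso b P.hb
  have hconj : γ * hS.tv hv * γ⁻¹ = hS.tv (v := γ.1.1 (vec b)) (by rw [H.map_form, hv]) := H.sT_conj γ hv hS.skew
  have e : π (hS.tv (v := γ.1.1 (vec b)) (by rw [H.map_form, hv])) = π (hS.tv hv) := by
    rw [← hconj, map_mul, map_mul, map_inv, hγ, ← P.model.img B P.hb hv, ← QuotientGroup.mk_inv,
      ← QuotientGroup.mk_mul, ← QuotientGroup.mk_mul]
    congr 1
    exact Subtype.ext (by
      show k * b * k⁻¹ = b
      rw [hkb.eq, mul_inv_cancel_right])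
  have hne : γ.1.1 (vec b) ≠ 0 := fun e0 => P.model.vec_ne b P.hb (γ.1.1.injective (e0.trans (map_zero _).symm))
  obtain ⟨c, hc, hce⟩ := (hS.tv_image_eq_iff π P.model.ker _ hv hne).1 e
  obtain ⟨g, hg, z, hz, hgz⟩ := hS.point_stab (P.model.vec_ne b P.hb) hv hc hce
  refine ⟨g, hg, hk, ?_⟩
  rw [← hγ, hgz, map_mul, (MonoidHom.mem_ker.1 (P.model.ker.symm ▸ hz) : π z = 1), mul_one]

/-- Conjugation by `k` on the vectors. -/
theorem conj_vec {k : G} {g : H.SIsom} (hk : k ∈ closure (perp D a))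
    (hg : π g = QuotientGroup.mk (⟨k, hk⟩ : ↥(closure (perp D a)))) {y : G} (hy : y ∈ perp D a) :
    ∃ t : F, t ≠ 0 ∧ g.1.1 (vec y) = t • vec (k * y * k⁻¹) := by
  have hS := P.model.six
  have hy' : k * y * k⁻¹ ∈ perp D a := conj_mem_perp P.m22.conj_D hk hy
  have hv := P.model.vec_iso y hy
  have hconj : g * hS.tv hv * g⁻¹ = hS.tv (v := g.1.1 (vec y)) (by rw [H.map_form, hv]) := H.sT_conj g hv hS.skew
  have e : π (hS.tv (v := g.1.1 (vec y)) (by rw [H.map_form, hv])) = π (hS.tv (P.model.vec_iso _ hy')) := by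
    rw [← hconj, map_mul, map_mul, map_inv, hg, ← P.model.img ⟨y, subset_closure hy⟩ hy hv,
      ← P.model.img ⟨k * y * k⁻¹, subset_closure hy'⟩ hy' (P.model.vec_iso _ hy'), ← QuotientGroup.mk_inv,
      ← QuotientGroup.mk_mul, ← QuotientGroup.mk_mul]
    rfl
  exact (hS.tv_image_eq_iff π P.model.ker _ (P.model.vec_iso _ hy')
    (fun e0 => P.model.vec_ne y hy (g.1.1.injective (e0.trans (map_zero _).symm)))).1 e

/-- The group at `v` meets the centre trivially. -/
theorem lift_unique {g g' : H.SIsom} (hg : g ∈ P.model.six.pointGroup (vec b))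
    (hg' : g' ∈ P.model.six.pointGroup (vec b)) (e : π g = π g') : g = g' := by
  have hS := P.model.six
  have h1 : g⁻¹ * g' ∈ center H.SIsom := by
    rw [← P.model.ker, MonoidHom.mem_ker, map_mul, map_inv, e, inv_mul_cancel]
  obtain ⟨z, -, hzs⟩ := hS.center_scalar h1
  have h2 := hS.pointGroup_fix (mul_mem (inv_mem hg) hg')
  rw [hzs] at h2
  have hz1 : z = 1 := by
    have h3 : (z - 1) • vec b = 0 := by rw [sub_smul, one_smul, h2, sub_self]
    exact sub_eq_zero.1 ((smul_eq_zero.1 h3).resolve_right (P.model.vec_ne b P.hb))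
  refine inv_mul_eq_one.1 (H.sisom_ext fun x => ?_)
  rw [hzs, hz1, one_smul]
  rfl

/-- The joint centraliser on the complement. -/
theorem exists_psi : ∃ ψ : ↥(centralizer ({a, b} : Set G)) →* P.space.SIsom, Function.Surjective ψ ∧
    ∀ k : ↥(centralizer ({a, b} : Set G)), ∃ g ∈ P.model.six.pointGroup (vec b),
      ∃ hk : (k : G) ∈ closure (perp D a), π g = QuotientGroup.mk (⟨k, hk⟩ : ↥(closure (perp D a))) ∧
      ∀ x, ((ψ k).1.1 x : Fin 6 → F) = IsSixSpace.proj H (vec b) u (g.1.1 (x : Fin 6 → F)) := by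
  have hS := P.model.six
  have hcom : ∀ k : ↥(centralizer ({a, b} : Set G)), Commute (k : G) a ∧ Commute (k : G) b := fun k =>
    ⟨(mem_centralizer_iff.1 k.2 a (by simp)).symm, (mem_centralizer_iff.1 k.2 b (by simp)).symm⟩
  choose g hg hk hgk using fun k : ↥(centralizer ({a, b} : Set G)) => P.exists_lift (hcom k).1 (hcom k).2
  let Λ : ↥(centralizer ({a, b} : Set G)) →* hS.pointGroup (vec b) := MonoidHom.mk' (fun k => ⟨g k, hg k⟩)
    fun k l => Subtype.ext (P.lift_unique (hg _) (mul_mem (hg k) (hg l)) (by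
      show π (g (k * l)) = π (g k * g l)
      rw [map_mul π, hgk, hgk, hgk, ← QuotientGroup.mk_mul]; rfl))
  obtain ⟨φ, hφs, hφ⟩ := hS.exists_action P.pair
  refine ⟨φ.comp Λ, hφs.comp fun t => ?_, fun k => ⟨g k, hg k, hk k, hgk k, fun x => hφ (Λ k) x⟩⟩
  obtain ⟨k₀, hk₀⟩ := QuotientGroup.mk_surjective (π (t : H.SIsom))
  have hkb : Commute (k₀ : G) b := by
    obtain ⟨c, hc, hce⟩ := P.conj_vec k₀.2 hk₀.symm P.hb
    rw [hS.pointGroup_fix t.2] at hce
    have e := P.model.eq_of_prop P.m22 P.ha P.hb (conj_mem_perp P.m22.conj_D k₀.2 P.hb) hce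
    exact mul_inv_eq_iff_eq_mul.1 e.symm
  have hmem : (k₀ : G) ∈ centralizer ({a, b} : Set G) := mem_centralizer_iff.2 fun x hx => by
    rcases hx with rfl | rfl
    exacts [(closure_perp_commute k₀.2).symm.eq, hkb.symm.eq]
  exact ⟨⟨_, hmem⟩, Subtype.ext (P.lift_unique (hg _) t.2 ((hgk _).trans hk₀))⟩

end PairModel

end Cfsg.Lib.ThreeTr
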