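import Cfsg.Agent.ThreeTransposition.M22Count.Pair.TwoGroup

/-!
An element exchanging two commuting members acts oddly on the members commuting with both; the elements fixing both
act evenly.
-/

set_option autoImplicit false
set_option linter.unusedSectionVars false
set_option linter.style.haveILetI false

namespace Cfsg.Lib.ThreeTr

open Cfsg Subgroup Cfsg.Lib.Classical Cfsg.Lib.TTUnitary

attribute [local instance] _root_.Classical.propDecidable

universe u

/-- Subsets of a finite group are finite types. -/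
noncomputable local instance setFintype {G : Type u} [Finite G] (s : Set G) : Fintype s := Fintype.ofFinite _

variable {G : Type u} [Group G] {D : Set G}

namespace M22

variable [Finite G] (h : M22 D)
include h

/-- Thirty members commute with a given member and two commuting ones it commutes with neither of. -/
theorem pair_common {a b c : G} (hb : b ∈ perp D a) (hc : c ∈ D) (ha : a ∈ D) (hac : ¬ Commute a c)
    (hbc : ¬ Commute b c) : ({y : G | y ∈ perp D a ∩ perp D b ∧ Commute y c}).ncard = 30 := by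
  set U := nb D a ∩ nb D c with hU
  have hM := h.card_inter ha hc hac
  rw [h.mu_eq ha hc hac] at hM
  have hsub : U ⊆ nb D a := Finset.inter_subset_left
  have hin : ∀ f ∈ U, (U.filter fun g => Commute g f).card = 46 := fun f hf => by
    simp only [hU, Finset.mem_inter, mem_nb] at hf
    exact h.inner_degree ha hc hac hf
  have hUD : ∀ f ∈ U, f ∈ perp D a := fun f hf => mem_nb.1 (hsub hf)
  let β : G → ℕ := fun x => (U.filter fun g => Commute g x).card
  have m1 : ∑ x ∈ nb D a, β x = 126 * 181 := by
    have key : ∑ x ∈ nb D a, β x = ∑ g ∈ U, ((nb D a).filter fun x => Commute g x).card := by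
      simp only [β, Finset.card_eq_sum_ones, Finset.sum_filter]
      exact Finset.sum_comm
    rw [key, Finset.sum_congr rfl (fun g hg => (congrArg Finset.card (Finset.filter_congr fun x _ =>
      (⟨fun h => h.symm, fun h => h.symm⟩ : Commute g x ↔ Commute x g))).trans (h.nb_one ha (hUD g hg))),
      Finset.sum_const, smul_eq_mul, hM]
  have m2 : ∑ x ∈ nb D a, β x ^ 2 = 126 * (181 + 45 * 53 + 80 * 45) := by
    have key : ∑ x ∈ nb D a, β x ^ 2 =
        ∑ f ∈ U, ∑ g ∈ U, ((nb D a).filter fun x => Commute f x ∧ Commute g x).card := by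
      simp only [β, Finset.card_eq_sum_ones, Finset.sum_filter, sq, Finset.sum_mul, Finset.mul_sum, ite_mul,
        one_mul, zero_mul, ← ite_and]
      rw [Finset.sum_comm]
      refine Finset.sum_congr rfl fun x _ => ?_
      rw [Finset.sum_comm]
      refine Finset.sum_congr rfl fun y _ => Finset.sum_congr rfl fun h _ => ?_
      by_cases h1 : Commute x h <;> by_cases h2 : Commute y h <;> simp [h1, h2]
    rw [key, Finset.sum_congr rfl (fun f hf => ?_), Finset.sum_const, smul_eq_mul, hM]
    have hsym : ∀ g, ((nb D a).filter fun x => Commute f x ∧ Commute g x).card =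
        ((nb D a).filter fun x => Commute x f ∧ Commute x g).card := fun g =>
      congrArg Finset.card (Finset.filter_congr fun x _ =>
        ⟨fun h => ⟨h.1.symm, h.2.symm⟩, fun h => ⟨h.1.symm, h.2.symm⟩⟩)
    have hfm : f ∈ U.filter fun g => Commute g f := Finset.mem_filter.2 ⟨hf, Commute.refl f⟩
    rw [← Finset.sum_filter_add_sum_filter_not U (fun g => Commute g f), ← Finset.add_sum_erase _ _ hfm]
    have e1 : ∀ g ∈ (U.filter fun g => Commute g f).erase f,
        ((nb D a).filter fun x => Commute f x ∧ Commute g x).card = 53 := by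
      intro g hg
      obtain ⟨hne, hg⟩ := Finset.mem_erase.1 hg
      obtain ⟨hgU, hgf⟩ := Finset.mem_filter.1 hg
      rw [hsym, h.nb_two ha (hUD f hf) (hUD g hgU) (Ne.symm hne) hgf.symm]
    have e2 : ∀ g ∈ U.filter (fun g => ¬ Commute g f),
        ((nb D a).filter fun x => Commute f x ∧ Commute g x).card = 45 := by
      intro g hg
      obtain ⟨hgU, hgf⟩ := Finset.mem_filter.1 hg
      rw [hsym, h.nb_pair ha (hUD f hf) (hUD g hgU) fun h' => hgf h'.symm]
    have e0 : ((nb D a).filter fun x => Commute f x ∧ Commute f x).card = 181 := by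
      rw [← h.nb_one ha (hUD f hf)]
      exact congrArg Finset.card (Finset.filter_congr fun x _ => ⟨fun h => h.1.symm, fun h => ⟨h.symm, h.symm⟩⟩)
    rw [Finset.sum_congr rfl e1, Finset.sum_congr rfl e2, e0, Finset.sum_const, Finset.sum_const, smul_eq_mul,
      smul_eq_mul, Finset.card_erase_of_mem hfm, hin f hf]
    have := Finset.card_filter_add_card_filter_not (s := U) (fun g => Commute g f)
    rw [hin f hf, hM] at this
    omega
  have r1 : ∑ x ∈ nb D a \ U, β x + 126 * 46 = 126 * 181 := by
    rw [← m1, ← Finset.sum_sdiff hsub, Finset.sum_congr (s₁ := U) rfl hin, Finset.sum_const, smul_eq_mul, hM]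
  have r2 : ∑ x ∈ nb D a \ U, β x ^ 2 + 126 * 46 ^ 2 = 126 * (181 + 45 * 53 + 80 * 45) := by
    rw [← m2, ← Finset.sum_sdiff hsub,
      Finset.sum_congr (s₁ := U) rfl (fun f hf => show β f ^ 2 = 46 ^ 2 by rw [show β f = 46 from hin f hf]),
      Finset.sum_const, smul_eq_mul, hM]
  have hR : (nb D a \ U).card = 567 := by
    have := Finset.card_sdiff_add_card_eq_card hsub
    rw [hM, h.card_nb ha] at this
    omega
  have hbR : b ∈ nb D a \ U := Finset.mem_sdiff.2 ⟨mem_nb.2 hb, fun hbU =>
    hbc (mem_nb.1 (Finset.mem_inter.1 hbU).2).2.2.symm⟩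
  have hzero : ∑ x ∈ nb D a \ U, ((β x : ℤ) - 30) ^ 2 = 0 := by
    have q1 : (∑ x ∈ nb D a \ U, (β x : ℤ)) = 17010 := by
      zify at r1
      linarith
    have q2 : (∑ x ∈ nb D a \ U, (β x : ℤ) ^ 2) = 510300 := by
      zify at r2
      linarith
    calc ∑ x ∈ nb D a \ U, ((β x : ℤ) - 30) ^ 2
        = ∑ x ∈ nb D a \ U, ((β x : ℤ) ^ 2 - 60 * (β x : ℤ) + 900) := Finset.sum_congr rfl fun x _ => by ring
      _ = 0 := by
        rw [Finset.sum_add_distrib, Finset.sum_sub_distrib, ← Finset.mul_sum, Finset.sum_const, hR, q1, q2]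
        norm_num
  have hb30 : β b = 30 := by
    have := (Finset.sum_eq_zero_iff_of_nonneg fun x _ => sq_nonneg ((β x : ℤ) - 30)).1 hzero b hbR
    have h2 : (β b : ℤ) - 30 = 0 := pow_eq_zero_iff two_ne_zero |>.1 this
    omega
  rw [← hb30, show β b = (U.filter fun g => Commute g b).card from rfl, ← Set.ncard_coe_finset]
  congr 1
  ext y
  simp only [Finset.coe_filter, hU, Finset.mem_inter, mem_nb, Set.mem_ofPred_eq, Set.mem_inter_iff]
  constructor
  · rintro ⟨⟨hya, hyb⟩, hyc⟩
    exact ⟨⟨hya, hya.1, fun e => hac (e ▸ hya.2.2), hyc.symm⟩, hyb.2.2.symm⟩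
  · rintro ⟨⟨hya, hyc⟩, hyb⟩
    exact ⟨⟨hya, hya.1, fun e => hbc (e ▸ hyc.2.2.symm), hyb.symm⟩, hyc.2.2.symm⟩

/-- An involution exchanging two commuting members, with its fixed members among their common neighbours. -/
theorem exists_swap {a b : G} (ha : a ∈ D) (hb : b ∈ perp D a) :
    ∃ σ r : G, σ * σ = 1 ∧ σ * a * σ⁻¹ = b ∧ σ * b * σ⁻¹ = a ∧ r ∈ D ∧ ¬ Commute a r ∧ ¬ Commute b r ∧
      ∀ y ∈ perp D a ∩ perp D b, σ * y * σ⁻¹ = y ↔ Commute y r := by
  have hE := h.cls.1
  obtain ⟨r, hr, har, hbr⟩ : ∃ r ∈ D, ¬ Commute a r ∧ ¬ Commute b r := by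
    obtain ⟨c, hc, hac⟩ : ∃ c ∈ D, ¬ Commute a c :=
      exists_not_commute h.cls (by obtain ⟨x, hx, y, hy, hne, -⟩ := h.exists_pair.pair; exact ⟨x, hx, y, hy, hne⟩) ha
    obtain ⟨b₀, hb₀, hb₀c⟩ : ∃ b₀ ∈ perp D a, b₀ ∉ perp D c := by
      by_contra hcon
      push Not at hcon
      have h1 := Set.ncard_le_ncard (s := perp D a) (t := perp D a ∩ perp D c) (fun x hx => ⟨hx, hcon x hx⟩)
        (Set.toFinite _)
      rw [h.ncard_perp ha, h.mu_eq ha hc hac] at h1
      omega
    obtain ⟨g, hga, hgb⟩ := h.pair_transitive ha hb₀ ha hb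
    refine ⟨g * c * g⁻¹, conj_mem h.cls g hc, fun e => hac ((conj_commute_iff g a c).1 (hga.symm ▸ e)),
      fun e => hb₀c ?_⟩
    have h1 : Commute b₀ c := (conj_commute_iff g b₀ c).1 (hgb.symm ▸ e)
    exact ⟨hb₀.1, fun e' => hac (e' ▸ hb₀.2.2), h1.symm⟩
  have hb1 := hb.1
  have cab := hb.2.2
  have hra : ¬ Commute r a := fun e => har e.symm
  set t := r * a * r with htdef
  have htD : t ∈ D := conj_invol_mem h.cls hr ha
  have har' : a * r * a = t := by rw [htdef, braid hE ha hr har]
  have hrtr : r * t * r = a := by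
    rw [htdef]
    calc r * (r * a * r) * r = (r * r) * a * (r * r) := by simp only [mul_assoc]
      _ = a := by rw [sq_eq_one hE hr, one_mul, mul_one]
  have aba : a * b * a = b := by rw [cab.eq, mul_assoc, sq_eq_one hE ha, mul_one]
  have htb : ¬ Commute t b := fun e => by
    refine hbr ?_
    have e2 : Commute (a * t * a) b := by
      have := (conj_commute_iff a t b).2 e
      rwa [inv_eq hE ha, aba] at this
    rw [← har'] at e2
    rw [show a * (a * r * a) * a = (a * a) * r * (a * a) by simp only [mul_assoc], sq_eq_one hE ha, one_mul,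
      mul_one] at e2
    exact e2.symm
  set s := t * b * t with hsdef
  have hsD : s ∈ D := conj_invol_mem h.cls htD hb1
  have hr2 := sq_eq_one hE hr
  have hs2 := sq_eq_one hE hsD
  have ha2 := sq_eq_one hE ha
  have ht2 := sq_eq_one hE htD
  have hrsr : r * s * r = s := by
    calc r * s * r = r * t * (r * r) * b * (r * r) * t * r := by rw [hr2, mul_one, mul_one, hsdef]; simp only [mul_assoc]
      _ = (r * t * r) * (r * b * r) * (r * t * r) := by simp only [mul_assoc]
      _ = (a * r * a) * (a * b * a) * (a * r * a) := by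
        rw [hrtr]
        calc a * (r * b * r) * a = a * r * 1 * b * 1 * r * a := by simp only [mul_one, mul_assoc]
          _ = a * r * (a * a) * b * (a * a) * r * a := by rw [ha2]
          _ = _ := by simp only [mul_assoc]
      _ = s := by rw [har', aba]
  have hrs : Commute r s := by
    have := congrArg (· * r) hrsr
    simp only [mul_assoc, hr2, mul_one] at this
    exact this
  have hrne : r ≠ s := by
    intro e
    refine hb.2.1 ?_
    have e1 : b = t * r * t := by
      rw [e, hsdef]
      calc b = (t * t) * b * (t * t) := by rw [ht2, one_mul, mul_one]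
        _ = _ := by simp only [mul_assoc]
    rw [e1, htdef]
    calc r * a * r * r * (r * a * r) = r * a * (r * r) * r * a * r * 1 := by simp only [mul_assoc, mul_one]
      _ = r * (a * r * a) * r := by rw [hr2, mul_one, mul_one]; simp only [mul_assoc]
      _ = a := by rw [har', hrtr]
  have hσ : Commute s r := hrs.symm
  have hinv : (s * r)⁻¹ = s * r := by rw [mul_inv_rev, inv_eq hE hr, inv_eq hE hsD, hσ.eq]
  have hsts : s * t * s = b := by
    rw [hsdef]
    calc t * b * t * t * (t * b * t) = t * b * (t * t) * t * b * t := by simp only [mul_assoc]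
      _ = t * (b * t * b) * t := by rw [ht2, mul_one]; simp only [mul_assoc]
      _ = (t * t) * b * (t * t) := by rw [← braid hE htD hb1 htb]; simp only [mul_assoc]
      _ = b := by rw [ht2, one_mul, mul_one]
  have hconj : ∀ x, (s * r) * x * (s * r)⁻¹ = s * (r * x * r) * s := fun x => by
    rw [mul_inv_rev, inv_eq hE hr, inv_eq hE hsD]; simp only [mul_assoc]
  have hσa : (s * r) * a * (s * r)⁻¹ = b := by rw [hconj, ← htdef, hsts]
  refine ⟨s * r, r, ?_, hσa, ?_, hr, har, hbr, fun y hy => ?_⟩
  · nth_rw 1 [← hinv]; exact inv_mul_cancel _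
  · nth_rw 1 [← hσa]
    rw [show s * r * (s * r * a * (s * r)⁻¹) * (s * r)⁻¹ = (s * r * (s * r)) * a * (s * r * (s * r))⁻¹ by group]
    nth_rw 2 [← hinv]
    nth_rw 4 [← hinv]
    rw [mul_inv_cancel, one_mul, inv_one, mul_one]
  · rw [hconj]
    have hyD := hy.1.1
    have hry : ∀ {p : G}, p ∈ D → (p * y * p = y ↔ Commute y p) := fun {p} hp => by
      constructor
      · intro e
        have := congrArg (· * p) e
        simp only [mul_assoc, sq_eq_one hE hp, mul_one] at this
        exact this.symm
      · intro e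
        rw [← e.eq, mul_assoc, sq_eq_one hE hp, mul_one]
    constructor
    · intro e
      have e' : r * y * r = s * y * s := by
        have := congrArg (fun x => s * x * s) e
        rw [show s * (s * (r * y * r) * s) * s = (s * s) * (r * y * r) * (s * s) by simp only [mul_assoc],
          hs2, one_mul, mul_one] at this
        exact this
      by_contra hyr
      by_cases hys : Commute y s
      · rw [(hry hsD).2 hys] at e'
        exact hyr ((hry hr).1 e')
      · rw [braid hE hr hyD (fun e => hyr e.symm), braid hE hsD hyD (fun e => hys e.symm)] at e'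
        exact hrne (mul_left_cancel (mul_right_cancel e'))
    · intro hyr
      have hyt : Commute y t := (hyr.mul_right hy.1.2.2.symm).mul_right hyr
      have hys : Commute y s := (hyt.mul_right hy.2.2.2.symm).mul_right hyt
      rw [(hry hr).2 hyr, (hry hsD).2 hys]

end M22

/-- The sign of a permutation of order two, by the number of moved points. -/
theorem sign_involution {α : Type*} [Fintype α] [DecidableEq α] {σ : Equiv.Perm α} (h : σ * σ = 1) :
    Equiv.Perm.sign σ = (-1) ^ (σ.support.card / 2) := by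
  have h2 : ∀ n ∈ σ.cycleType, n = 2 := fun n hn => by
    have h1 := (Equiv.Perm.dvd_of_mem_cycleType hn).trans (orderOf_dvd_of_pow_eq_one (n := 2) (by rw [pow_two, h]))
    have := Equiv.Perm.two_le_of_mem_cycleType hn
    have := Nat.le_of_dvd (by norm_num) h1
    omega
  have hrep := Multiset.eq_replicate_card.2 h2
  have hsum : σ.support.card = Multiset.card σ.cycleType * 2 := by
    rw [← Equiv.Perm.sum_cycleType]
    conv_lhs => rw [hrep]
    rw [Multiset.sum_replicate, smul_eq_mul]
  rw [Equiv.Perm.sign_of_cycleType, hsum, Nat.mul_div_cancel _ (by norm_num)]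
  conv_lhs => rw [hrep]
  rw [Multiset.sum_replicate, smul_eq_mul, Multiset.card_replicate, pow_add, pow_mul', neg_one_sq, one_pow, one_mul]

namespace M22

variable [Finite G] (h : M22 D) {a b : G} (ha : a ∈ D) (hb : b ∈ perp D a)
include h ha hb

theorem mem_pair_prod {c : G} (hc : c ∈ centralizer ({a * b} : Set G)) :
    (c * a * c⁻¹ = a ∧ c * b * c⁻¹ = b) ∨ (c * a * c⁻¹ = b ∧ c * b * c⁻¹ = a) := by
  have hne : a ≠ b := hb.2.1.symm
  have hne' : c * a * c⁻¹ ≠ c * b * c⁻¹ := fun e => hne (mul_left_cancel (mul_right_cancel e))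
  have hcc : Commute (c * a * c⁻¹) (c * b * c⁻¹) := (conj_commute_iff c a b).2 hb.2.2
  have hmem := pair_unique h.cls.1 h.twin (l := [c * a * c⁻¹, c * b * c⁻¹]) (l' := [a, b]) rfl rfl
    (by simpa using fun e => hne' e) (by simpa using hne)
    (fun x hx => by
      simp only [List.mem_cons, List.not_mem_nil, or_false] at hx
      rcases hx with rfl | rfl
      exacts [conj_mem h.cls c ha, conj_mem h.cls c hb.1])
    (fun x hx => by
      simp only [List.mem_cons, List.not_mem_nil, or_false] at hx
      rcases hx with rfl | rfl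
      exacts [ha, hb.1])
    (fun x hx y hy => by
      simp only [List.mem_cons, List.not_mem_nil, or_false] at hx hy
      rcases hx with rfl | rfl <;> rcases hy with rfl | rfl
      exacts [Commute.refl _, hcc, hcc.symm, Commute.refl _])
    (fun x hx y hy => by
      simp only [List.mem_cons, List.not_mem_nil, or_false] at hx hy
      rcases hx with rfl | rfl <;> rcases hy with rfl | rfl
      exacts [Commute.refl _, hb.2.2, hb.2.2.symm, Commute.refl _])
    (by
      simp only [List.prod_cons, List.prod_nil, mul_one]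
      rw [show c * a * c⁻¹ * (c * b * c⁻¹) = c * (a * b) * c⁻¹ by group, mem_centralizer_singleton_iff.1 hc,
        mul_inv_cancel_right])
  have h1 := (hmem (c * a * c⁻¹)).1 (by simp)
  have h2 := (hmem (c * b * c⁻¹)).1 (by simp)
  simp only [List.mem_cons, List.not_mem_nil, or_false] at h1 h2
  rcases h1 with e1 | e1 <;> rcases h2 with e2 | e2
  · exact absurd (e1.trans e2.symm) hne'
  · exact Or.inl ⟨e1, e2⟩
  · exact Or.inr ⟨e1, e2⟩
  · exact absurd (e1.trans e2.symm) hne'

theorem pair_le_prod : centralizer ({a, b} : Set G) ≤ centralizer ({a * b} : Set G) := fun _ hk =>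
  mem_centralizer_singleton_iff.2 ((mem_centralizer_pair.1 hk).1.mul_right (mem_centralizer_pair.1 hk).2).eq

/-- The action on the common neighbours. -/
theorem exists_act : ∃ act : ↥(centralizer ({a * b} : Set G)) →* Equiv.Perm ↥(perp D a ∩ perp D b),
    ∀ c x, ((act c x : ↥(perp D a ∩ perp D b)) : G) = (c : G) * x * (c : G)⁻¹ := by
  have hin : ∀ (c : ↥(centralizer ({a * b} : Set G))) (x : ↥(perp D a ∩ perp D b)),
      (c : G) * x * (c : G)⁻¹ ∈ perp D a ∩ perp D b := fun c x =>
    mem_inter_conj h.cls _ (h.mem_pair_prod ha hb c.2) x.2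
  refine ⟨MonoidHom.mk' (fun c =>
    { toFun := fun x => ⟨_, hin c x⟩
      invFun := fun x => ⟨_, hin c⁻¹ x⟩
      left_inv := fun x => Subtype.ext (by simp [mul_assoc])
      right_inv := fun x => Subtype.ext (by simp [mul_assoc]) }) fun c d => Equiv.ext fun x => Subtype.ext (by
        simp [mul_assoc]), fun c x => rfl⟩

theorem card_common : Fintype.card ↥(perp D a ∩ perp D b) = 180 := by
  have e : perp D a ∩ perp D b = {y : G | y ∈ perp D a ∧ Commute y b} \ {b} := by
    ext y
    constructor
    · rintro ⟨h1, h2⟩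
      exact ⟨⟨h1, h2.2.2.symm⟩, h2.2.1⟩
    · rintro ⟨⟨h1, h2⟩, h3⟩
      exact ⟨h1, h1.1, h3, h2.symm⟩
  rw [← Nat.card_eq_fintype_card, Nat.card_coe_set_eq, e,
    Set.ncard_sdiff_singleton_of_mem (show b ∈ {y : G | y ∈ perp D a ∧ Commute y b} from ⟨hb, Commute.refl b⟩),
    h.ncard_one ha hb]

/-- Sign of an element of square one in the product centraliser. -/
theorem sign_act {act : ↥(centralizer ({a * b} : Set G)) →* Equiv.Perm ↥(perp D a ∩ perp D b)}
    (hact : ∀ c x, ((act c x : ↥(perp D a ∩ perp D b)) : G) = (c : G) * x * (c : G)⁻¹)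
    {c : ↥(centralizer ({a * b} : Set G))} (hc : c * c = 1) {n : ℕ}
    (hn : ({y : G | y ∈ perp D a ∩ perp D b ∧ (c : G) * y * (c : G)⁻¹ = y}).ncard = n) :
    Equiv.Perm.sign (act c) = (-1) ^ ((180 - n) / 2) := by
  rw [sign_involution (by rw [← map_mul, hc, map_one])]
  congr 2
  have h1 := Finset.card_filter_add_card_filter_not (s := (Finset.univ : Finset ↥(perp D a ∩ perp D b)))
    (fun x => act c x = x)
  have h2 : (Finset.univ.filter fun x => act c x = x).card = n := by
    rw [← hn, ← Set.ncard_coe_finset, ← Set.ncard_image_of_injective _ Subtype.val_injective]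
    congr 1
    ext y
    simp only [Finset.coe_filter, Finset.mem_univ, true_and, Set.mem_image, Set.mem_ofPred_eq]
    constructor
    · rintro ⟨x, hx, rfl⟩
      exact ⟨x.2, by rw [← hact, hx]⟩
    · rintro ⟨hy, e⟩
      exact ⟨⟨y, hy⟩, Subtype.ext ((hact c ⟨y, hy⟩).trans e), rfl⟩
  have h3 : (act c).support = Finset.univ.filter fun x => ¬ act c x = x := by
    ext x; simp
  rw [Finset.card_univ, h.card_common ha hb, h2] at h1
  rw [h3]
  omega

set_option maxHeartbeats 800000 in
/-- The joint centraliser acts evenly, and some element of the product centraliser oddly. -/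
theorem sign_facts {act : ↥(centralizer ({a * b} : Set G)) →* Equiv.Perm ↥(perp D a ∩ perp D b)}
    (hact : ∀ c x, ((act c x : ↥(perp D a ∩ perp D b)) : G) = (c : G) * x * (c : G)⁻¹) :
    (∀ k : ↥(centralizer ({a * b} : Set G)), (k : G) ∈ centralizer ({a, b} : Set G) →
      Equiv.Perm.sign (act k) = 1) ∧
    ∃ σ : ↥(centralizer ({a * b} : Set G)), (σ : G) * a * (σ : G)⁻¹ = b ∧ Equiv.Perm.sign (act σ) = -1 := by
  have hE := h.cls.1
  constructor
  · obtain ⟨F, _, _, H, π, vec, u, P⟩ := h.exists_pairModel ha hb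
    obtain ⟨ψ, hψ⟩ := P.exists_isPsi
    obtain ⟨-, hker, -⟩ := P.pairTwo_facts hψ
    haveI := P.model.six.fd
    set S := ({a, b} : Set G) ∪ (perp D a ∩ perp D b) with hS
    have hgen : ∀ k ∈ S, ∀ hk : k ∈ centralizer ({a * b} : Set G), Equiv.Perm.sign (act ⟨k, hk⟩) = 1 := by
      intro k hkS hk
      have hk2 : (⟨k, hk⟩ : ↥(centralizer ({a * b} : Set G))) * ⟨k, hk⟩ = 1 := Subtype.ext (by
        rcases hkS with (rfl | rfl) | hy
        exacts [sq_eq_one hE ha, sq_eq_one hE hb.1, sq_eq_one hE hy.1.1])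
      have hfix : ∀ y, k * y * k⁻¹ = y ↔ Commute y k := fun y =>
        ⟨fun e => (mul_inv_eq_iff_eq_mul.1 e).symm, fun e => mul_inv_eq_iff_eq_mul.2 e.symm.eq⟩
      rcases hkS with hab | hy
      · have hn : ({y : G | y ∈ perp D a ∩ perp D b ∧ k * y * k⁻¹ = y}).ncard = 180 := by
          rw [← h.card_common ha hb, ← Nat.card_eq_fintype_card, Nat.card_coe_set_eq]
          congr 1
          ext y
          refine ⟨fun hh => hh.1, fun hy => ⟨hy, (hfix y).2 ?_⟩⟩
          rcases hab with rfl | rfl
          exacts [hy.1.2.2.symm, hy.2.2.2.symm]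
        rw [h.sign_act ha hb hact hk2 hn]
        rfl
      · have hn : ({y : G | y ∈ perp D a ∩ perp D b ∧ k * y * k⁻¹ = y}).ncard = 52 := by
          have h53 := h.ncard_two ha hb hy.1 hy.2.2.1.symm hy.2.2.2
          have e : {y : G | y ∈ perp D a ∩ perp D b ∧ k * y * k⁻¹ = y} =
              {z : G | z ∈ perp D a ∧ Commute z b ∧ Commute z k} \ {b} := by
            ext y
            simp only [Set.mem_sdiff, Set.mem_ofPred_eq, Set.mem_singleton_iff, hfix]
            constructor
            · rintro ⟨⟨h1, h2⟩, h3⟩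
              exact ⟨⟨h1, h2.2.2.symm, h3⟩, h2.2.1⟩
            · rintro ⟨⟨h1, h2, h3⟩, h4⟩
              exact ⟨⟨h1, h1.1, h4, h2.symm⟩, h3⟩
          rw [e, Set.ncard_sdiff_singleton_of_mem
            (show b ∈ {z : G | z ∈ perp D a ∧ Commute z b ∧ Commute z k} from ⟨hb, Commute.refl b, hy.2.2.2⟩), h53]
        rw [h.sign_act ha hb hact hk2 hn]
        rfl
    have hSle : closure S ≤ centralizer ({a * b} : Set G) := by
      refine le_trans ((closure_le _).2 ?_) (h.pair_le_prod ha hb)
      rintro x ((rfl | rfl) | hx)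
      exacts [mem_centralizer_pair.2 ⟨Commute.refl x, hb.2.2⟩, mem_centralizer_pair.2 ⟨hb.2.2.symm, Commute.refl x⟩,
        inter_subset_centralizer hx]
    have hclo : ∀ k (hk : k ∈ closure S), Equiv.Perm.sign (act ⟨k, hSle hk⟩) = 1 := by
      intro k hk
      induction hk using closure_induction with
      | mem x hx => exact hgen x hx _
      | one =>
        rw [show (⟨1, hSle (one_mem _)⟩ : ↥(centralizer ({a * b} : Set G))) = 1 from rfl, map_one, map_one]
      | mul x y hx hy ex ey =>
        rw [show (⟨x * y, hSle (mul_mem hx hy)⟩ : ↥(centralizer ({a * b} : Set G))) = ⟨x, hSle hx⟩ * ⟨y, hSle hy⟩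
          from rfl, map_mul, map_mul, ex, ey, one_mul]
      | inv x hx ex =>
        rw [show (⟨x⁻¹, hSle (inv_mem hx)⟩ : ↥(centralizer ({a * b} : Set G))) = (⟨x, hSle hx⟩ :
          ↥(centralizer ({a * b} : Set G)))⁻¹ from rfl, map_inv, map_inv, ex, inv_one]
    intro k hk
    suffices hkS : (k : G) ∈ closure S from hclo k hkS
    have htop : closure P.space.oneTransv ≤ ((closure S).subgroupOf (centralizer ({a, b} : Set G))).map ψ := by
      rw [closure_le]
      intro t ht
      obtain ⟨w, hw0, hw, rfl⟩ := (TTUnitary.mem_oneTransv P.space_four).1 ht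
      obtain ⟨z, hz, c, hc, e⟩ := P.exists_point w.2 (fun e0 => hw0 (Subtype.ext e0)) hw 0
      refine ⟨⟨z, inter_subset_centralizer hz⟩, subset_closure (Or.inr hz), ?_⟩
      rw [P.psi_member hψ hz, ← TTUnitary.tv_smul P.space_four (v := ⟨_, P.q_mem hz⟩) (P.q_iso hz) hc]
      congr 1
      exact Subtype.ext (P.point_q w.2 e).symm
    have hgen' : closure P.space.oneTransv = ⊤ :=
      (HermSpace.threeTransposition (H := P.space) (le_of_eq P.space_dim.symm) P.model.six.two P.model.six.norm).2.2
    obtain ⟨k', hk', e⟩ := htop (hgen' ▸ mem_top (ψ ⟨k, hk⟩))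
    have hmem : (k : G) * (k' : G)⁻¹ ∈ pairTwo D a b := by
      rw [hker]
      exact ⟨⟨k, hk⟩ * k'⁻¹, by rw [SetLike.mem_coe, MonoidHom.mem_ker, map_mul, map_inv, e, mul_inv_cancel], rfl⟩
    have hle : pairTwo D a b ≤ closure S := by
      rw [pairTwo, closure_le]
      rintro x (hx | ⟨y, z, hy, hz, rfl⟩)
      · exact subset_closure (Or.inl hx)
      · exact mul_mem (subset_closure (Or.inr hy)) (subset_closure (Or.inr hz.1))
    have := mul_mem (hle hmem) hk'
    rwa [Subgroup.subtype_apply, inv_mul_cancel_right] at this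
  · obtain ⟨σ, r, h2, hσa, hσb, hr, har, hbr, hfix⟩ := h.exists_swap ha hb
    have h5 : σ * (a * b) * σ⁻¹ = a * b := by
      have h6 : σ * (a * b) * σ⁻¹ = (σ * a * σ⁻¹) * (σ * b * σ⁻¹) := by group
      rw [h6, hσa, hσb]
      exact hb.2.2.eq.symm
    have h7 : σ * (a * b) = a * b * σ := mul_inv_eq_iff_eq_mul.1 h5
    have hσ : σ ∈ centralizer ({a * b} : Set G) := mem_centralizer_singleton_iff.2 h7
    refine ⟨⟨σ, hσ⟩, hσa, ?_⟩
    rw [h.sign_act ha hb hact (Subtype.ext h2) (n := 30) ?_]
    · rfl
    · rw [← h.pair_common hb hr ha har hbr]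
      congr 1
      ext y
      exact and_congr_right fun hy => hfix y hy

end M22

end Cfsg.Lib.ThreeTr
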