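import Cfsg.Agent.ThreeTransposition.M22Count.Pair.Setting

/-!
The subgroup generated by the products of two members in one six through `a` and `b`: it is trivial on the complement,
it moves the members of a six by translations, and its commutators lie in the group of `a * b`.
-/

set_option autoImplicit false
set_option linter.unusedSectionVars false
set_option linter.style.haveILetI false

namespace Cfsg.Lib.ThreeTr

open Cfsg Subgroup Cfsg.Lib.Classical Cfsg.Lib.TTUnitary

universe u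

variable {G : Type u} [Group G] {D : Set G}

/-- Products of two members in one six through `a`, `b`. -/
def pairGen (D : Set G) (a b : G) : Set G :=
  {g | ∃ y z : G, y ∈ perp D a ∩ perp D b ∧ Mate D a b y z ∧ g = y * z}

/-- The group they generate with `a`, `b`. -/
def pairTwo (D : Set G) (a b : G) : Subgroup G := closure ({a, b} ∪ pairGen D a b)

theorem mate_conj (hcls : IsThreeTranspositionClass D) {a b y z : G} (g : G)
    (h : (g * a * g⁻¹ = a ∧ g * b * g⁻¹ = b) ∨ (g * a * g⁻¹ = b ∧ g * b * g⁻¹ = a)) (hz : Mate D a b y z) :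
    Mate D a b (g * y * g⁻¹) (g * z * g⁻¹) := by
  have h1 : g * z * g⁻¹ ∈ perp D (g * a * g⁻¹) ∩ perp D (g * b * g⁻¹) :=
    ⟨conj_image_perp hcls g a ▸ ⟨z, hz.1.1, rfl⟩, conj_image_perp hcls g b ▸ ⟨z, hz.1.2, rfl⟩⟩
  have h2 := (conj_mem_tperp hcls g).2 hz.2
  rcases h with ⟨e1, e2⟩ | ⟨e1, e2⟩
  · rw [e1, e2] at h1 h2; exact ⟨h1, h2⟩
  · rw [e1, e2] at h1 h2; exact ⟨⟨h1.2, h1.1⟩, tperp_swap (D := D) b a _ ▸ h2⟩

theorem mem_inter_conj (hcls : IsThreeTranspositionClass D) {a b y : G} (g : G)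
    (h : (g * a * g⁻¹ = a ∧ g * b * g⁻¹ = b) ∨ (g * a * g⁻¹ = b ∧ g * b * g⁻¹ = a))
    (hy : y ∈ perp D a ∩ perp D b) : g * y * g⁻¹ ∈ perp D a ∩ perp D b := by
  have h1 : g * y * g⁻¹ ∈ perp D (g * a * g⁻¹) ∩ perp D (g * b * g⁻¹) :=
    ⟨conj_image_perp hcls g a ▸ ⟨y, hy.1, rfl⟩, conj_image_perp hcls g b ▸ ⟨y, hy.2, rfl⟩⟩
  rcases h with ⟨e1, e2⟩ | ⟨e1, e2⟩
  · rwa [e1, e2] at h1
  · rw [e1, e2] at h1; exact ⟨h1.2, h1.1⟩

theorem mem_centralizer_pair {a b k : G} :
    k ∈ centralizer ({a, b} : Set G) ↔ Commute k a ∧ Commute k b := by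
  rw [mem_centralizer_iff]
  refine ⟨fun h => ⟨(h a (by simp)).symm, (h b (by simp)).symm⟩, fun h x hx => ?_⟩
  rcases hx with rfl | rfl
  exacts [h.1.symm.eq, h.2.symm.eq]

theorem inter_subset_centralizer {a b : G} :
    perp D a ∩ perp D b ⊆ (centralizer ({a, b} : Set G) : Set G) := fun _ hy =>
  mem_centralizer_pair.2 ⟨hy.1.2.2.symm, hy.2.2.2.symm⟩

theorem pairTwo_le {a b : G} (hab : Commute a b) : pairTwo D a b ≤ centralizer ({a, b} : Set G) := by
  rw [pairTwo, closure_le]
  rintro x ((rfl | rfl) | ⟨y, z, hy, hz, rfl⟩)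
  · exact mem_centralizer_pair.2 ⟨Commute.refl x, hab⟩
  · exact mem_centralizer_pair.2 ⟨hab.symm, Commute.refl x⟩
  · exact mul_mem (inter_subset_centralizer hy) (inter_subset_centralizer hz.1)

namespace PairModel

variable [Finite G] {a b : G} {F : Type} [Field F] [Fintype F] {H : HermSpace F (Fin 6 → F)}
  {π : H.SIsom →* ↥(closure (perp D a)) ⧸ center ↥(closure (perp D a))} {vec : G → (Fin 6 → F)}
  {u : Fin 6 → F} (P : PairModel D a b H π vec u)
include P

/-- `w + x • v` is the point of `z`. -/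
def At (H : HermSpace F (Fin 6 → F)) (vec : G → (Fin 6 → F)) (D : Set G) (a b : G) (u w : Fin 6 → F) (x : F)
    (z : G) : Prop :=
  w ∈ perp2 H ⊤ (vec b) u ∧ z ∈ perp D a ∩ perp D b ∧ ∃ t : F, t ≠ 0 ∧ w + x • vec b = t • vec z

theorem at_self {y : G} (hy : y ∈ perp D a ∩ perp D b) :
    At H vec D a b u (IsSixSpace.proj H (vec b) u (vec y)) (H.h (vec y) u) y :=
  ⟨P.q_mem hy, hy, 1, one_ne_zero, by rw [P.model.six.proj_cancel, one_smul]⟩

/-- The members of one six have points with the same component. -/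
theorem mate_coord {y z : G} (hy : y ∈ perp D a ∩ perp D b) (hz : Mate D a b y z) :
    ∃ x : F, At H vec D a b u (IsSixSpace.proj H (vec b) u (vec y)) x z := by
  obtain ⟨hzP, c, hc, e⟩ := (P.mate_iff hy).1 hz
  refine ⟨c⁻¹ * H.h (vec z) u, P.q_mem hy, hzP, c⁻¹, inv_ne_zero hc, ?_⟩
  conv_rhs => rw [← P.model.six.proj_cancel (vec b) u (vec z), e, smul_add, smul_smul, smul_smul,
    inv_mul_cancel₀ hc, one_smul]

theorem at_mate {w : Fin 6 → F} {x x' : F} {y z : G} (h1 : At H vec D a b u w x y)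
    (h2 : At H vec D a b u w x' z) : Mate D a b y z := by
  obtain ⟨hw, hy, t, ht, e⟩ := h1
  obtain ⟨-, hz, t', ht', e'⟩ := h2
  refine (P.mate_iff hy).2 ⟨hz, t'⁻¹ * t, mul_ne_zero (inv_ne_zero ht') ht, ?_⟩
  rw [mul_smul, ← P.point_q hw e, P.point_q hw e', smul_smul, inv_mul_cancel₀ ht', one_smul]

theorem at_eq {w : Fin 6 → F} {x : F} {y z : G} (h1 : At H vec D a b u w x y) (h2 : At H vec D a b u w x z) :
    y = z := by
  obtain ⟨-, hy, t, ht, e⟩ := h1
  obtain ⟨-, hz, t', ht', e'⟩ := h2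
  exact P.point_unique hy.1 hz.1 ht e e'

theorem at_inj {w : Fin 6 → F} {x x' : F} {y : G} (h1 : At H vec D a b u w x y)
    (h2 : At H vec D a b u w x' y) : x = x' := by
  obtain ⟨hw, hy, t, ht, e⟩ := h1
  obtain ⟨-, -, t', ht', e'⟩ := h2
  have h3 := (P.point_q hw e).symm.trans (P.point_q hw e')
  have h4 : t = t' := smul_left_injective F (P.q_ne hy) h3
  rw [← h4, ← e] at e'
  exact (smul_left_injective F (P.model.vec_ne b P.hb) (add_left_cancel e')).symm

theorem at_ne {w : Fin 6 → F} {x : F} {y : G} (h : At H vec D a b u w x y) : w ≠ 0 ∧ H.h w w = 0 := by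
  obtain ⟨hw, hy, t, ht, e⟩ := h
  rw [P.point_q hw e, P.model.six.toFour.h_smul_smul ht]
  exact ⟨smul_ne_zero ht (P.q_ne hy), P.q_iso hy⟩

theorem at_commute {w r : Fin 6 → F} {x x' : F} {y z : G} (h1 : At H vec D a b u w x y)
    (h2 : At H vec D a b u r x' z) : Commute y z ↔ H.h w r = 0 := by
  obtain ⟨hw, hy, t, ht, e⟩ := h1
  obtain ⟨hr, hz, t', ht', e'⟩ := h2
  rw [P.point_q hw e, P.point_q hr e', H.smul_left, H.smul_right, mul_eq_zero, or_iff_right ht, mul_eq_zero,
    or_iff_right (fun e0 => ht' (H.conj.eq_zero.mp e0)), P.comm_q hy hz]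

/-- Translations. -/
theorem translate {w r : Fin 6 → F} {α β x : F} {y z o : G} (hy : At H vec D a b u w α y)
    (hz : At H vec D a b u w β z) (ho : At H vec D a b u r x o) :
    At H vec D a b u r (x + H.h r w * (α + β)) (y * z * o * (y * z)⁻¹) := by
  have hS := P.model.six
  have hww := (P.at_ne hy).2
  obtain ⟨hw, hyP, t, ht, ey⟩ := hy
  obtain ⟨-, hzP, s, hs, ez⟩ := hz
  obtain ⟨hr, hoP, l, hl, eo⟩ := ho
  have hk : y * z ∈ closure (perp D a) := mul_mem (subset_closure hyP.1) (subset_closure hzP.1)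
  have hg : π (hS.tv (P.model.vec_iso y hyP.1) * hS.tv (P.model.vec_iso z hzP.1)) =
      QuotientGroup.mk (⟨y * z, hk⟩ : ↥(closure (perp D a))) := by
    rw [map_mul, ← P.model.img ⟨y, subset_closure hyP.1⟩ hyP.1, ← P.model.img ⟨z, subset_closure hzP.1⟩ hzP.1,
      ← QuotientGroup.mk_mul]
    rfl
  obtain ⟨c, hc, hce⟩ := P.conj_vec hk hg hoP.1
  have hP' := mem_inter_conj P.m22.cls (y * z) (Or.inl ⟨?_, ?_⟩) hoP
  refine ⟨hr, hP', l * c, mul_ne_zero hl hc, ?_⟩
  · rw [mul_smul, ← hce, ← map_smul, ← eo, HermSpace.smul_mul_apply, hS.tv_apply, hS.tv_apply]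
    -- the vectors of `y` and `z` up to scalars
    have hy' : ∀ X : Fin 6 → F, H.h X (vec y) • vec y = H.h X (w + α • vec b) • (w + α • vec b) := fun X => by
      rw [ey, H.smul_right, smul_smul, mul_right_comm, hS.toFour.norm_flip ht, one_mul]
    have hz' : ∀ X : Fin 6 → F, H.h X (vec z) • vec z = H.h X (w + β • vec b) • (w + β • vec b) := fun X => by
      rw [ez, H.smul_right, smul_smul, mul_right_comm, hS.toFour.norm_flip hs, one_mul]
    rw [hz', hy']
    obtain ⟨-, hwv, -⟩ := mem_perp2.mp hw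
    obtain ⟨-, hrv, -⟩ := mem_perp2.mp hr
    have hvv := P.model.vec_iso b P.hb
    simp only [H.add_left, H.add_right, H.smul_left, H.smul_right, hvv, hwv, hrv, H.eq_zero_symm hwv, hww,
      mul_zero, add_zero, smul_add, smul_smul, add_smul]
    match_scalars <;> (ring_nf; try simp [hS.two])
  · rw [mul_inv_eq_iff_eq_mul]
    exact (hyP.1.2.2.mul_right hzP.1.2.2).symm.eq
  · rw [mul_inv_eq_iff_eq_mul]
    exact (hyP.2.2.2.mul_right hzP.2.2.2).symm.eq

/-- Four members of one six multiply to `a * b`. -/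
theorem four_prod {y z p q : G} (hy : y ∈ perp D a ∩ perp D b) (hz : Mate D a b y z) (hp : Mate D a b y p)
    (hq : Mate D a b y q) (hn : [y, z, p, q].Nodup) : y * z * p * q = a * b := by
  have h := P.m22
  obtain ⟨p', q', r', hnd, hcomm, -, hprod, hin⟩ := m22_hexad h.cls h.prim h.twin h.type P.ha P.hb.1 hy.1.1
    P.hb.2.1.symm hy.1.2.1.symm hy.2.2.1.symm P.hb.2.2 hy.1.2.2 hy.2.2.2
  have hsub : [a, b, y, z, p, q] ⊆ [a, b, y, p', q', r'] := by
    intro x hx
    simp only [List.mem_cons, List.not_mem_nil, or_false] at hx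
    rcases hx with rfl | rfl | rfl | rfl | rfl | rfl
    exacts [by simp, by simp, by simp, hin _ hz.2, hin _ hp.2, hin _ hq.2]
  have hn' : [a, b, y, z, p, q].Nodup := by
    refine List.nodup_cons.2 ⟨fun hm => ?_, List.nodup_cons.2 ⟨fun hm => ?_, hn⟩⟩
    · simp only [List.mem_cons, List.not_mem_nil, or_false] at hm
      rcases hm with e | e | e | e | e
      exacts [P.hb.2.1 e.symm, hy.1.2.1 e.symm, hz.1.1.2.1 e.symm, hp.1.1.2.1 e.symm, hq.1.1.2.1 e.symm]
    · simp only [List.mem_cons, List.not_mem_nil, or_false] at hm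
      rcases hm with e | e | e | e
      exacts [hy.2.2.1 e.symm, hz.1.2.2.1 e.symm, hp.1.2.2.1 e.symm, hq.1.2.2.1 e.symm]
  have hperm : [a, b, y, z, p, q].Perm [a, b, y, p', q', r'] :=
    (hn'.subperm hsub).perm_of_length_le (by simp)
  have h1 : [a, b, y, z, p, q].prod = 1 := by
    rw [← hprod]
    exact hperm.prod_eq' (List.Pairwise.imp_of_mem
      (fun {x w} hx hw _ => hcomm x (hperm.mem_iff.1 hx) w (hperm.mem_iff.1 hw)) hn')
  simp only [List.prod_cons, List.prod_nil, mul_one] at h1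
  rw [← mul_assoc a b] at h1
  have h2 : (a * b) * (a * b) = 1 := by
    rw [← pow_two]; exact (commute_iff_sq (sq_eq_one h.cls.1 P.ha) (sq_eq_one h.cls.1 P.hb.1)).1 P.hb.2.2
  have h3 := (mul_eq_one_iff_inv_eq.1 h1).symm
  rw [mul_eq_one_iff_inv_eq.1 h2] at h3
  rw [← h3]; simp only [mul_assoc]

/-- When the translation fixes or exchanges the pair, the products commute. -/
theorem gen_commute_iff {w r : Fin 6 → F} {α β α' β' : F} {y z y' z' : G} (hy : At H vec D a b u w α y)
    (hz : At H vec D a b u w β z) (hy' : At H vec D a b u r α' y') (hz' : At H vec D a b u r β' z')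
    (hne : α' ≠ β') :
    Commute (y * z) (y' * z') ↔ H.h r w * (α + β) = 0 ∨ H.h r w * (α + β) = α' + β' := by
  have hS := P.model.six
  have hq := hS.toFour
  have t1 := P.translate hy hz hy'
  have t2 := P.translate hy hz hz'
  set s := H.h r w * (α + β)
  set g := y * z
  have hconj : g * (y' * z') * g⁻¹ = (g * y' * g⁻¹) * (g * z' * g⁻¹) := by group
  have hyz' : Commute y' z' := (P.at_commute hy' hz').2 (P.at_ne hy').2
  constructor
  · intro hc
    have he : (g * y' * g⁻¹) * (g * z' * g⁻¹) = y' * z' := by rw [← hconj, hc.eq, mul_inv_cancel_right]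
    have hne' : y' ≠ z' := fun e => hne (P.at_inj hy' (e ▸ hz'))
    have hmem := pair_unique P.m22.cls.1 P.m22.twin (l := [g * y' * g⁻¹, g * z' * g⁻¹]) (l' := [y', z']) rfl rfl
      (List.nodup_cons.2 ⟨fun hm => hne' (mul_left_cancel (mul_right_cancel (List.mem_singleton.1 hm))), List.nodup_singleton _⟩) (by simpa using hne')
      (fun x hx => by
        simp only [List.mem_cons, List.not_mem_nil, or_false] at hx
        rcases hx with rfl | rfl
        exacts [conj_mem P.m22.cls g hy'.2.1.1.1, conj_mem P.m22.cls g hz'.2.1.1.1])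
      (fun x hx => by
        simp only [List.mem_cons, List.not_mem_nil, or_false] at hx
        rcases hx with rfl | rfl
        exacts [hy'.2.1.1.1, hz'.2.1.1.1])
      (fun x hx x' hx' => by
        simp only [List.mem_cons, List.not_mem_nil, or_false] at hx hx'
        rcases hx with rfl | rfl <;> rcases hx' with rfl | rfl
        exacts [Commute.refl _, (conj_commute_iff g _ _).2 hyz', ((conj_commute_iff g _ _).2 hyz').symm,
          Commute.refl _])
      (fun x hx x' hx' => by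
        simp only [List.mem_cons, List.not_mem_nil, or_false] at hx hx'
        rcases hx with rfl | rfl <;> rcases hx' with rfl | rfl
        exacts [Commute.refl _, hyz', hyz'.symm, Commute.refl _])
      (by simpa using he) (g * y' * g⁻¹)
    have h1 := hmem.1 (by simp)
    simp only [List.mem_cons, List.not_mem_nil, or_false] at h1
    rcases h1 with e | e
    · exact Or.inl (add_left_cancel ((P.at_inj t1 (e.symm ▸ hy')).trans (add_zero α').symm))
    · refine Or.inr ?_
      have h2 := P.at_inj t1 (e.symm ▸ hz')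
      rw [← h2, ← add_assoc, hq.add_self, zero_add]
  · rintro (e | e)
    · rw [e, add_zero] at t1 t2
      have e1 := P.at_eq t1 hy'
      have e2 := P.at_eq t2 hz'
      exact mul_inv_eq_iff_eq_mul.1 (by rw [hconj, e1, e2])
    · have e1 : α' + s = β' := by rw [e, ← add_assoc, hq.add_self, zero_add]
      have e2 : β' + s = α' := by rw [e, add_left_comm, hq.add_self, add_zero]
      rw [e1] at t1
      rw [e2] at t2
      exact mul_inv_eq_iff_eq_mul.1 (by rw [hconj, P.at_eq t1 hz', P.at_eq t2 hy', hyz'.eq])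

/-- The commutator of two generators is `1` or `a * b`. -/
theorem gen_comm {g g' : G} (hg : g ∈ pairGen D a b) (hg' : g' ∈ pairGen D a b) :
    g * g' * g⁻¹ * g'⁻¹ = 1 ∨ g * g' * g⁻¹ * g'⁻¹ = a * b := by
  obtain ⟨y, z, hy, hz, rfl⟩ := hg
  obtain ⟨y', z', hy', hz', rfl⟩ := hg'
  obtain ⟨β, hzc⟩ := P.mate_coord hy hz
  obtain ⟨β', hzc'⟩ := P.mate_coord hy' hz'
  have hyc := P.at_self hy
  have hyc' := P.at_self hy'
  set α := H.h (vec y) u
  set α' := H.h (vec y') u
  set w := IsSixSpace.proj H (vec b) u (vec y)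
  set r := IsSixSpace.proj H (vec b) u (vec y')
  by_cases hne : α' = β'
  · left
    rw [P.at_eq hyc' (hne.symm ▸ hzc'), sq_eq_one P.m22.cls.1 hz'.1.1.1]
    group
  by_cases hc : Commute (y * z) (y' * z')
  · left
    rw [hc.eq]; group
  right
  have hs := (P.gen_commute_iff hyc hzc hyc' hzc' hne).not.1 hc
  push Not at hs
  have hq := P.model.six.toFour
  have t1 := P.translate hyc hzc hyc'
  have t2 := P.translate hyc hzc hzc'
  set s := H.h r w * (α + β)
  set g := y * z
  have hyz' : Commute y' z' := (P.at_commute hyc' hzc').2 (P.at_ne hyc').2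
  have hn : [g * y' * g⁻¹, g * z' * g⁻¹, z', y'].Nodup := by
    simp only [List.nodup_cons, List.mem_cons, List.not_mem_nil, or_false, List.nodup_nil, and_true, not_or,
      not_false_eq_true]
    refine ⟨⟨fun e => ?_, fun e => ?_, fun e => ?_⟩, ⟨fun e => ?_, fun e => ?_⟩, fun e => ?_⟩
    · exact hne (add_right_cancel (P.at_inj t1 (e.symm ▸ t2)))
    · have := P.at_inj t1 (e.symm ▸ hzc')
      exact hs.2 (by rw [← this, ← add_assoc, hq.add_self, zero_add])
    · exact hs.1 (add_left_cancel ((P.at_inj t1 (e.symm ▸ hyc')).trans (add_zero α').symm))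
    · exact hs.1 (add_left_cancel ((P.at_inj t2 (e.symm ▸ hzc')).trans (add_zero β').symm))
    · have := P.at_inj t2 (e.symm ▸ hyc')
      exact hs.2 (by rw [← this, add_comm β' s, add_assoc, hq.add_self, add_zero])
    · exact hne (P.at_inj hyc' (e ▸ hzc'))
  rw [← P.four_prod t1.2.1 (P.at_mate t1 t2) (P.at_mate t1 hzc') (P.at_mate t1 hyc') hn, mul_inv_rev y' z',
    inv_eq P.m22.cls.1 hz'.1.1.1, inv_eq P.m22.cls.1 hy'.1.1]
  group

end PairModel

end Cfsg.Lib.ThreeTr
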