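import Cfsg.Agent.ThreeTransposition.M22Count.Pair.Translations
import Cfsg.Agent.ThreeTransposition.M22Count.Triples
import Cfsg.Agent.ThreeTransposition.ElevenNorm.Basic

/-!
The joint centraliser of two commuting members: its normal 2-subgroup of order 2^10 with commutator group of order 2,
its centre, and its quotient.
-/

set_option autoImplicit false
set_option linter.unusedSectionVars false
set_option linter.style.haveILetI false

namespace Cfsg.Lib.ThreeTr

open Cfsg Subgroup Cfsg.Lib.Classical Cfsg.Lib.TTUnitary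

universe u

variable {G : Type u} [Group G] {D : Set G}

/-- Generators with commutators and squares in a central cyclic group: so has the whole group. -/
theorem class_two_closure {S : Set G} {z : G} (hz : ∀ s ∈ S, Commute z s)
    (hc : ∀ s ∈ S, ∀ t ∈ S, s * t * s⁻¹ * t⁻¹ ∈ zpowers z) (hsq : ∀ s ∈ S, s * s ∈ zpowers z) :
    (∀ x ∈ closure S, ∀ y ∈ closure S, x * y * x⁻¹ * y⁻¹ ∈ zpowers z) ∧ ∀ x ∈ closure S, x * x ∈ zpowers z := by
  have hcen : ∀ w ∈ zpowers z, ∀ x ∈ closure S, Commute w x := by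
    rintro w ⟨n, rfl⟩ x hx
    induction hx using closure_induction with
    | mem s hs => exact (hz s hs).zpow_left n
    | one => exact Commute.one_right _
    | mul x y _ _ hx hy => exact hx.mul_right hy
    | inv x _ hx => exact hx.inv_right
  have hone : ∀ t ∈ S, ∀ x ∈ closure S, x * t * x⁻¹ * t⁻¹ ∈ zpowers z := by
    intro t ht x hx
    induction hx using closure_induction with
    | mem s hs => exact hc s hs t ht
    | one => simp
    | mul x y hxm hym hx hy =>
      rw [show x * y * t * (x * y)⁻¹ * t⁻¹ = x * (y * t * y⁻¹ * t⁻¹) * x⁻¹ * (x * t * x⁻¹ * t⁻¹) by group,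
        show x * (y * t * y⁻¹ * t⁻¹) * x⁻¹ = y * t * y⁻¹ * t⁻¹ by
          rw [← ((hcen _ hy x hxm)).eq, mul_inv_cancel_right]]
      exact mul_mem hy hx
    | inv x hxm hx =>
      have e : x⁻¹ * t * x⁻¹⁻¹ * t⁻¹ = x⁻¹ * (x * t * x⁻¹ * t⁻¹)⁻¹ * x := by group
      rw [e, ← (hcen _ (inv_mem hx) x⁻¹ (inv_mem hxm)).eq, inv_mul_cancel_right]
      exact inv_mem hx
  have hall : ∀ x ∈ closure S, ∀ y ∈ closure S, x * y * x⁻¹ * y⁻¹ ∈ zpowers z := by
    intro x hx y hy
    induction hy using closure_induction with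
    | mem t ht => exact hone t ht x hx
    | one => simp
    | mul y y' hym hym' h h' =>
      rw [show x * (y * y') * x⁻¹ * (y * y')⁻¹ = (x * y * x⁻¹ * y⁻¹) * (y * (x * y' * x⁻¹ * y'⁻¹) * y⁻¹) by group,
        ← (hcen _ h' y hym).eq, mul_inv_cancel_right]
      exact mul_mem h h'
    | inv y hym h =>
      rw [show x * y⁻¹ * x⁻¹ * y⁻¹⁻¹ = y⁻¹ * (x * y * x⁻¹ * y⁻¹)⁻¹ * y by group,
        ← (hcen _ (inv_mem h) y⁻¹ (inv_mem hym)).eq, inv_mul_cancel_right]
      exact inv_mem h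
  refine ⟨hall, fun x hx => ?_⟩
  induction hx using closure_induction with
  | mem s hs => exact hsq s hs
  | one => simp
  | mul x y hxm hym hx hy =>
    rw [show x * y * (x * y) = x * (y * x * y⁻¹ * x⁻¹) * x⁻¹ * (x * x * (y * y)) by group,
      ← (hcen _ (hall y hym x hxm) x hxm).eq, mul_inv_cancel_right]
    exact mul_mem (hall y hym x hxm) (mul_mem hx hy)
  | inv x _ hx =>
    rw [← mul_inv_rev]
    exact inv_mem hx

theorem two_mul_card_le_of_lt [Finite G] {S T : Subgroup G} (h : S < T) : 2 * Nat.card S ≤ Nat.card T := by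
  obtain ⟨n, hn⟩ := Subgroup.card_dvd_of_le h.le
  rcases Nat.lt_or_ge n 2 with hn2 | hn2
  · exfalso
    have hT := Nat.card_pos (α := T)
    obtain rfl : n = 1 := by
      rcases Nat.eq_zero_or_pos n with rfl | hpos <;> omega
    exact h.ne (Subgroup.eq_of_le_of_card_ge h.le (by omega))
  · rw [hn, mul_comm (Nat.card S)]
    exact Nat.mul_le_mul_right _ hn2

/-- Elements with partners: the centralisers in `E` form a chain of steps of index at least two. -/
theorem chain_card [Finite G] {n : ℕ} (g : Fin n → G) (j : Fin n → Fin n) (E : Subgroup G) (hg : ∀ i, g i ∈ E)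
    (hnc : ∀ i, ¬ Commute (g i) (g (j i))) (hc : ∀ i k, k ≠ i → Commute (g k) (g (j i))) :
    2 ^ n * Nat.card ↥(E ⊓ centralizer (Set.range g)) ≤ Nat.card E := by
  have key : ∀ m, m ≤ n →
      2 ^ m * Nat.card ↥(E ⊓ centralizer {x | ∃ k : Fin n, (k : ℕ) < m ∧ g k = x}) ≤ Nat.card E := by
    intro m hm
    induction m with
    | zero =>
      rw [pow_zero, one_mul]
      exact Nat.le_of_dvd Nat.card_pos (Subgroup.card_dvd_of_le inf_le_left)
    | succ m ih =>
      set S := E ⊓ centralizer {x | ∃ k : Fin n, (k : ℕ) < m ∧ g k = x}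
      set T := E ⊓ centralizer {x | ∃ k : Fin n, (k : ℕ) < m + 1 ∧ g k = x}
      have hlt : T < S := by
        refine lt_of_le_of_ne (inf_le_inf_left _ (centralizer_le fun x ⟨k, hk, e⟩ => ⟨k, by omega, e⟩)) fun e => ?_
        have hmem : g (j ⟨m, hm⟩) ∈ S := by
          refine mem_inf.2 ⟨hg _, mem_centralizer_iff.2 fun x hx => ?_⟩
          obtain ⟨k, hk, rfl⟩ := hx
          exact (hc ⟨m, hm⟩ k fun e => by rw [e] at hk; exact lt_irrefl _ hk).eq
        rw [← e] at hmem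
        exact hnc ⟨m, hm⟩ (mem_centralizer_iff.1 (mem_inf.1 hmem).2 _ ⟨⟨m, hm⟩, Nat.lt_succ_self m, rfl⟩)
      calc 2 ^ (m + 1) * Nat.card T = 2 ^ m * (2 * Nat.card T) := by rw [pow_succ]; ring
        _ ≤ 2 ^ m * Nat.card S := Nat.mul_le_mul_left _ (two_mul_card_le_of_lt hlt)
        _ ≤ Nat.card E := ih (by omega)
  rw [show Set.range g = {x | ∃ k : Fin n, (k : ℕ) < n ∧ g k = x} from
    Set.ext fun x => ⟨fun ⟨k, e⟩ => ⟨k, k.2, e⟩, fun ⟨k, _, e⟩ => ⟨k, e⟩⟩]
  exact key n le_rfl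

/-- The joint centraliser of two commuting members. -/
theorem M22.card_pair_centralizer [Finite G] (h : M22 D) {a b : G} (ha : a ∈ D) (hb : b ∈ perp D a) :
    Nat.card ↥(centralizer ({a, b} : Set G)) = 26542080 := by
  set C := closure (perp D a) with hC
  haveI : Finite (ConjAct G) := Finite.of_equiv _ ConjAct.toConjAct.toEquiv
  let f : ↥C →* ConjAct G := ConjAct.toConjAct.toMonoidHom.comp C.subtype
  letI : MulAction ↥C G := MulAction.compHom G f
  have hsmul : ∀ (c : ↥C) (x : G), c • x = (c : G) * x * (c : G)⁻¹ := fun c x => by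
    show f c • x = _
    rw [ConjAct.smul_def]
    rfl
  have horb : MulAction.orbit ↥C b = perp D a := by
    ext x
    constructor
    · rintro ⟨c, rfl⟩
      show c • b ∈ perp D a
      rw [hsmul]
      exact conj_mem_perp h.conj_D c.2 hb
    · intro hx
      obtain ⟨g, hg, e⟩ := h.exists_pair.perp_transitive ha hb hx
      exact ⟨⟨g, hg⟩, by show (⟨g, hg⟩ : ↥C) • b = x; rw [hsmul]; exact e⟩
  have h1 := MulAction.index_stabilizer ↥C b
  rw [horb, h.ncard_perp ha] at h1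
  have h2 : (MulAction.stabilizer ↥C b).map C.subtype = centralizer ({a, b} : Set G) := by
    ext g
    rw [mem_centralizer_pair]
    constructor
    · rintro ⟨c, hc, rfl⟩
      refine ⟨closure_perp_commute c.2, ?_⟩
      have : (c : G) * b * (c : G)⁻¹ = b := by
        rw [← hsmul]; exact hc
      exact mul_inv_eq_iff_eq_mul.1 this
    · rintro ⟨hga, hgb⟩
      refine ⟨⟨g, by rw [hC, ← h.centralizer_eq ha]; exact mem_centralizer_singleton_iff.2 hga.eq⟩, ?_, rfl⟩
      show (_ : ↥C) • b = b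
      rw [hsmul]
      exact mul_inv_eq_iff_eq_mul.2 hgb.eq
  have h3 := (MulAction.stabilizer ↥C b).card_mul_index
  rw [h1, h.card_closure_perp ha] at h3
  rw [← h2, Subgroup.card_map_of_injective C.subtype_injective]
  omega

namespace PairModel

variable [Finite G] {a b : G} {F : Type} [Field F] [Fintype F] {H : HermSpace F (Fin 6 → F)}
  {π : H.SIsom →* ↥(closure (perp D a)) ⧸ center ↥(closure (perp D a))} {vec : G → (Fin 6 → F)}
  {u : Fin 6 → F} (P : PairModel D a b H π vec u)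
include P

/-- A map of the joint centraliser on the complement as given by `exists_psi`. -/
def IsPsi (ψ : ↥(centralizer ({a, b} : Set G)) →* P.space.SIsom) : Prop :=
  Function.Surjective ψ ∧ ∀ k : ↥(centralizer ({a, b} : Set G)), ∃ g ∈ P.model.six.pointGroup (vec b),
    ∃ hk : (k : G) ∈ closure (perp D a), π g = QuotientGroup.mk (⟨k, hk⟩ : ↥(closure (perp D a))) ∧
    ∀ x, ((ψ k).1.1 x : Fin 6 → F) = IsSixSpace.proj H (vec b) u (g.1.1 (x : Fin 6 → F))

theorem exists_isPsi : ∃ ψ, P.IsPsi ψ := P.exists_psi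

variable {ψ : ↥(centralizer ({a, b} : Set G)) →* P.space.SIsom} (hψ : P.IsPsi ψ)
include hψ

/-- A member acts as the transvection at its component. -/
theorem psi_member {y : G} (hy : y ∈ perp D a ∩ perp D b) :
    ψ ⟨y, inter_subset_centralizer hy⟩ = TTUnitary.tv P.space_four ⟨_, P.q_mem hy⟩ := by
  have hS := P.model.six
  obtain ⟨g, hg, hk, hgk, hform⟩ := hψ.2 ⟨y, inter_subset_centralizer hy⟩
  have e : g = hS.tv (P.model.vec_iso y hy.1) := by
    refine P.lift_unique hg (hS.tv_mem_pointGroup _ (P.orth hy)) ?_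
    rw [hgk, ← P.model.img ⟨y, subset_closure hy.1⟩ hy.1]
  refine P.space.sisom_ext fun x => Subtype.ext ?_
  rw [hform, e, hS.tv_apply, hS.proj_add, hS.proj_smul, hS.proj_of_perp (mem_perp2.mp x.2).2.2,
    TTUnitary.tv_apply P.space_four (v := ⟨_, P.q_mem hy⟩) (P.q_iso hy)]
  show _ = (x : Fin 6 → F) + H.h (x : Fin 6 → F) (vec y + H.h (vec y) u • vec b) • _
  rw [H.add_right, H.smul_right, (mem_perp2.mp x.2).2.1, mul_zero, add_zero]

/-- Conjugation on components. -/
theorem psi_conj (k : ↥(centralizer ({a, b} : Set G))) {w : perp2 H (⊤ : Submodule F (Fin 6 → F)) (vec b) u}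
    {x : F} {y : G} (hy : At H vec D a b u w x y) :
    ∃ x' : F, At H vec D a b u ((ψ k).1.1 w) x' ((k : G) * y * (k : G)⁻¹) := by
  have hS := P.model.six
  obtain ⟨g, hg, hk, hgk, hform⟩ := hψ.2 k
  obtain ⟨-, hyP, t, ht, e⟩ := hy
  obtain ⟨c, hc, hce⟩ := P.conj_vec hk hgk hyP.1
  have hk2 := mem_centralizer_pair.1 k.2
  refine ⟨H.h (g.1.1 (w : Fin 6 → F)) u + x, ((ψ k).1.1 w).2, mem_inter_conj P.m22.cls k
    (Or.inl ⟨mul_inv_eq_iff_eq_mul.2 hk2.1.eq, mul_inv_eq_iff_eq_mul.2 hk2.2.eq⟩) hyP, t * c,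
    mul_ne_zero ht hc, ?_⟩
  rw [mul_smul, ← hce, ← map_smul, ← e, hform, map_add, map_smul, hS.pointGroup_fix hg, IsSixSpace.proj, add_smul,
    add_assoc, ← add_assoc (H.h (g.1.1 (w : Fin 6 → F)) u • vec b), hS.vadd_self, zero_add]

theorem psi_self : ψ ⟨a, mem_centralizer_pair.2 ⟨Commute.refl a, P.hb.2.2⟩⟩ = 1 ∧
    ψ ⟨b, mem_centralizer_pair.2 ⟨P.hb.2.2.symm, Commute.refl b⟩⟩ = 1 := by
  have hS := P.model.six
  constructor
  · obtain ⟨g, hg, hk, hgk, hform⟩ := hψ.2 ⟨a, mem_centralizer_pair.2 ⟨Commute.refl a, P.hb.2.2⟩⟩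
    have e : g = 1 := by
      refine P.lift_unique hg (one_mem _) ?_
      rw [map_one, hgk, QuotientGroup.eq_one_iff, mem_center_iff]
      exact fun z => Subtype.ext (closure_perp_commute z.2).eq
    refine P.space.sisom_ext fun x => Subtype.ext ?_
    rw [hform, e]
    exact hS.proj_of_perp (mem_perp2.mp x.2).2.2
  · obtain ⟨g, hg, hk, hgk, hform⟩ := hψ.2 ⟨b, mem_centralizer_pair.2 ⟨P.hb.2.2.symm, Commute.refl b⟩⟩
    have e : g = hS.tv (P.model.vec_iso b P.hb) := by
      refine P.lift_unique hg (hS.tv_mem_pointGroup _ (P.model.vec_iso b P.hb)) ?_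
      rw [hgk, ← P.model.img ⟨b, subset_closure P.hb⟩ P.hb]
    refine P.space.sisom_ext fun x => Subtype.ext ?_
    rw [hform, e, hS.tv_apply, (mem_perp2.mp x.2).2.1, zero_smul, add_zero]
    exact hS.proj_of_perp (mem_perp2.mp x.2).2.2

theorem pairTwo_ker : pairTwo D a b ≤ ψ.ker.map (centralizer ({a, b} : Set G)).subtype := by
  rw [pairTwo, closure_le]
  obtain ⟨ea, eb⟩ := P.psi_self hψ
  rintro x ((rfl | rfl) | ⟨y, z, hy, hz, rfl⟩)
  · exact ⟨_, ea, rfl⟩
  · exact ⟨_, eb, rfl⟩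
  · refine ⟨⟨y, inter_subset_centralizer hy⟩ * ⟨z, inter_subset_centralizer hz.1⟩, ?_, rfl⟩
    obtain ⟨-, c, hc, e⟩ := (P.mate_iff hy).1 hz
    rw [SetLike.mem_coe, MonoidHom.mem_ker, map_mul, P.psi_member hψ hy, P.psi_member hψ hz.1,
      show (⟨_, P.q_mem hz.1⟩ : perp2 H (⊤ : Submodule F (Fin 6 → F)) (vec b) u) = c • ⟨_, P.q_mem hy⟩ from
        Subtype.ext e, TTUnitary.tv_smul P.space_four (v := ⟨_, P.q_mem hy⟩) (P.q_iso hy) hc]
    exact TTUnitary.tv_sq P.space_four (v := ⟨_, P.q_mem hy⟩) (P.q_iso hy)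

omit hψ

theorem pairTwo_comm : (∀ x ∈ pairTwo D a b, ∀ y ∈ pairTwo D a b, x * y * x⁻¹ * y⁻¹ ∈ zpowers (a * b)) ∧
    ∀ x ∈ pairTwo D a b, x * x ∈ zpowers (a * b) := by
  have hE := P.m22.cls.1
  have hac : ∀ s ∈ ({a, b} ∪ pairGen D a b : Set G), Commute a s ∧ Commute b s := by
    rintro s ((rfl | rfl) | ⟨y, z, hy, hz, rfl⟩)
    · exact ⟨Commute.refl _, P.hb.2.2.symm⟩
    · exact ⟨P.hb.2.2, Commute.refl _⟩
    · exact ⟨hy.1.2.2.mul_right hz.1.1.2.2, hy.2.2.2.mul_right hz.1.2.2.2⟩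
  have hab : ∀ {x s : G}, (x = a ∨ x = b) → s ∈ ({a, b} ∪ pairGen D a b : Set G) → Commute x s := fun {x s} hx hs => by
    rcases hx with rfl | rfl
    exacts [(hac s hs).1, (hac s hs).2]
  refine class_two_closure (fun s hs => (hac s hs).1.mul_left (hac s hs).2) (fun s hs t ht => ?_) fun s hs => ?_
  · have h1 : ∀ {x s : G}, Commute x s → x * s * x⁻¹ * s⁻¹ ∈ zpowers (a * b) := fun {x s} hc => by
      rw [hc.eq, mul_inv_cancel_right, mul_inv_cancel]; exact one_mem _
    rcases hs with hs' | hs'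
    · exact h1 (hab (by simpa using hs') ht)
    rcases ht with ht' | ht'
    · exact h1 (hab (by simpa using ht') (Or.inr hs')).symm
    rcases P.gen_comm hs' ht' with e | e <;> rw [e]
    exacts [one_mem _, mem_zpowers _]
  · rcases hs with (rfl | rfl) | ⟨y, z, hy, hz, rfl⟩
    · rw [sq_eq_one hE P.ha]; exact one_mem _
    · rw [sq_eq_one hE P.hb.1]; exact one_mem _
    · have hc : Commute y z := hz.2.2 y hy.1.1 hy.1.2.2.symm hy.2.2.2.symm (Commute.refl y)
      rw [← pow_two, hc.mul_pow, pow_two, pow_two, sq_eq_one hE hy.1.1, sq_eq_one hE hz.1.1.1, one_mul]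
      exact one_mem _

/-- Eight generators in four noncommuting pairs. -/
theorem exists_eight : ∃ (g : Fin 8 → G) (j : Fin 8 → Fin 8), (∀ i, g i ∈ pairGen D a b) ∧
    (∀ i, ¬ Commute (g i) (g (j i))) ∧ ∀ i k, k ≠ i → Commute (g k) (g (j i)) := by
  have hS := P.model.six
  have hq := hS.toFour
  have hn := hS.nondeg' P.pair
  have h4 : Module.finrank F (perp2 H (⊤ : Submodule F (Fin 6 → F)) (vec b) u) = 4 := P.space_dim
  haveI := hS.fd
  obtain ⟨q₁, hq₁, hq₁0, hq₁i⟩ := exists_iso hn (by omega)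
  obtain ⟨r₁, p₁⟩ := exists_pair hn hq₁ hq₁0 hq₁i
  have hn1 := p₁.nondeg hq hn
  have h2 := p₁.finrank hq
  obtain ⟨q₂, hq₂, hq₂0, hq₂i⟩ := exists_iso hn1 (by omega)
  obtain ⟨r₂, p₂⟩ := exists_pair hn1 hq₂ hq₂0 hq₂i
  obtain ⟨ω, hω⟩ := H.conj.exists_trace_one
  have hω0 : ω ≠ 0 := fun e => by rw [e, map_zero, zero_add] at hω; exact zero_ne_one hω
  have hω1 : ω ≠ 1 := fun e => by rw [e, map_one, hS.add_self] at hω; exact zero_ne_one hω
  obtain ⟨-, hq₂q₁, hq₂r₁⟩ := mem_perp2.mp hq₂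
  obtain ⟨-, hr₂q₁, hr₂r₁⟩ := mem_perp2.mp p₂.mem_right
  let vs : Fin 4 → (Fin 6 → F) := ![q₁, r₁, q₂, r₂]
  let pr : Fin 4 → Fin 4 := ![1, 0, 3, 2]
  have hvs : ∀ k, vs k ∈ perp2 H ⊤ (vec b) u ∧ vs k ≠ 0 ∧ H.h (vs k) (vs k) = 0 := by
    intro k
    fin_cases k
    · exact ⟨hq₁, hq₁0, hq₁i⟩
    · exact ⟨p₁.mem_right, p₁.swap.ne_zero, p₁.iso_right⟩
    · exact ⟨(mem_perp2.mp hq₂).1, hq₂0, hq₂i⟩
    · exact ⟨(mem_perp2.mp p₂.mem_right).1, p₂.swap.ne_zero, p₂.iso_right⟩
  have hgram : ∀ k l, H.h (vs k) (vs l) = if l = pr k then 1 else 0 := by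
    intro k l
    fin_cases k <;> fin_cases l <;>
      simp [vs, pr, hq₁i, p₁.prod, p₁.flip, p₁.iso_right, hq₂i, p₂.prod, p₂.flip, p₂.iso_right, hq₂q₁, hq₂r₁, hr₂q₁,
        hr₂r₁, H.eq_zero_symm hq₂q₁, H.eq_zero_symm hq₂r₁, H.eq_zero_symm hr₂q₁, H.eq_zero_symm hr₂r₁]
  have hpt : ∀ k x, ∃ z, At H vec D a b u (vs k) x z := fun k x => by
    obtain ⟨z, hz, e⟩ := P.exists_point (hvs k).1 (hvs k).2.1 (hvs k).2.2 x
    exact ⟨z, (hvs k).1, hz, e⟩
  choose M hM using hpt
  let co : Fin 2 → F := ![1, ω]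
  have hco : ∀ t, co t ≠ 0 := by intro t; fin_cases t <;> simp [co, hω0]
  let g : Fin 4 × Fin 2 → G := fun i => M i.1 (co i.2) * M i.1 0
  let jj : Fin 4 × Fin 2 → Fin 4 × Fin 2 := fun i => (pr i.1, 1 - i.2)
  have hgen : ∀ i, g i ∈ pairGen D a b := fun i =>
    ⟨_, _, (hM i.1 (co i.2)).2.1, P.at_mate (hM i.1 (co i.2)) (hM i.1 0), rfl⟩
  have hiff : ∀ i k, Commute (g i) (g k) ↔
      H.h (vs k.1) (vs i.1) * co i.2 = 0 ∨ H.h (vs k.1) (vs i.1) * co i.2 = co k.2 := by
    intro i k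
    have := P.gen_commute_iff (hM i.1 (co i.2)) (hM i.1 0) (hM k.1 (co k.2)) (hM k.1 0) (hco k.2)
    rwa [add_zero, add_zero] at this
  have hcoj : ∀ t t' : Fin 2, co t = co t' → t = t' := by
    intro t t'
    fin_cases t <;> fin_cases t' <;> simp [co, hω1, Ne.symm hω1]
  have hpr : ∀ k, pr (pr k) = k := by decide
  let Φ : Fin 4 × Fin 2 ≃ Fin 8 := finProdFinEquiv
  refine ⟨g ∘ Φ.symm, Φ ∘ jj ∘ Φ.symm, fun i => hgen _, fun i => ?_,
    fun i k hki => ?_⟩
  · simp only [Function.comp_apply, Equiv.symm_apply_apply]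
    rw [hiff, hgram]
    simp only [jj, hpr, if_pos, one_mul]
    rintro (e | e)
    · exact hco _ e
    · have := hcoj _ _ e
      generalize (Φ.symm i).2 = t at this
      fin_cases t <;> simp at this
  · simp only [Function.comp_apply, Equiv.symm_apply_apply]
    set i' := Φ.symm i
    set k' := Φ.symm k
    have hne : k' ≠ i' := fun e => hki (Φ.symm.injective e)
    rw [hiff, hgram]
    by_cases e1 : k'.1 = i'.1
    · rw [if_pos (show k'.1 = pr (jj i').1 by simp only [jj, hpr, e1]), one_mul]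
      refine Or.inr (congrArg co ?_)
      have e2 : k'.2 ≠ i'.2 := fun e => hne (Prod.ext e1 e)
      show k'.2 = 1 - i'.2
      revert e2
      generalize k'.2 = t
      generalize i'.2 = t'
      revert t t'
      decide
    · rw [if_neg (show ¬ k'.1 = pr (jj i').1 by simp only [jj, hpr]; exact e1), zero_mul]
      exact Or.inl rfl

theorem card_closure_ab : Nat.card ↥(closure ({a, b} : Set G)) = 4 :=
  ElevenNorm.card_closure_pair (P.m22.cls.1.1 a P.ha) (P.m22.cls.1.1 b P.hb.1) P.hb.2.1.symm P.hb.2.2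

include hψ in
/-- The order, the centre, and the kernel. -/
theorem pairTwo_facts : Nat.card ↥(pairTwo D a b) = 2 ^ 10 ∧
    pairTwo D a b = ψ.ker.map (centralizer ({a, b} : Set G)).subtype ∧
    pairTwo D a b ⊓ centralizer (pairTwo D a b : Set G) = closure ({a, b} : Set G) := by
  haveI := P.model.six.fd
  have hF : Fintype.card F = 4 := by rw [← Nat.card_eq_fintype_card]; exact P.model.four
  obtain ⟨hSU, -⟩ := four_space_facts hF P.space_four P.space_dim
  have hK := P.m22.card_pair_centralizer P.ha P.hb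
  have h1 := ψ.ker.card_mul_index
  rw [Subgroup.index_ker, MonoidHom.range_eq_top.2 hψ.1, Subgroup.card_top, hSU, hK] at h1
  have hker : Nat.card ↥(ψ.ker.map (centralizer ({a, b} : Set G)).subtype) = 1024 := by
    rw [Subgroup.card_map_of_injective (centralizer ({a, b} : Set G)).subtype_injective]
    omega
  have hle := P.pairTwo_ker hψ
  obtain ⟨g, j, hg, hnc, hc⟩ := P.exists_eight
  have hgE : ∀ i, g i ∈ pairTwo D a b := fun i => subset_closure (Or.inr (hg i))
  set S := pairTwo D a b ⊓ centralizer (Set.range g) with hSdef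
  have hch : 2 ^ 8 * Nat.card S ≤ Nat.card ↥(pairTwo D a b) := chain_card g j _ hgE hnc hc
  have hVle : closure ({a, b} : Set G) ≤ pairTwo D a b := closure_mono Set.subset_union_left
  have hVc : closure ({a, b} : Set G) ≤ centralizer (pairTwo D a b : Set G) := by
    rw [closure_le]
    intro x hx
    refine mem_centralizer_iff.2 fun y hy => ?_
    have hy' := mem_centralizer_pair.1 (pairTwo_le P.hb.2.2 hy)
    rcases hx with rfl | rfl
    exacts [hy'.1.eq, hy'.2.eq]
  have hZle : pairTwo D a b ⊓ centralizer (pairTwo D a b : Set G) ≤ S :=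
    inf_le_inf_left _ (centralizer_le (Set.range_subset_iff.2 hgE))
  have hV := P.card_closure_ab
  have hVS : closure ({a, b} : Set G) ≤ S := (le_inf hVle hVc).trans hZle
  have h4 := Nat.le_of_dvd Nat.card_pos (Subgroup.card_dvd_of_le hVS)
  have hup := Nat.le_of_dvd Nat.card_pos (Subgroup.card_dvd_of_le hle)
  refine ⟨by omega, Subgroup.eq_of_le_of_card_ge hle (by omega), le_antisymm ?_ (le_inf hVle hVc)⟩
  exact hZle.trans (Subgroup.eq_of_le_of_card_ge hVS (by omega)).ge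

include hψ in
/-- The centre of the joint centraliser. -/
theorem center_pair : (center ↥(centralizer ({a, b} : Set G))).map (centralizer ({a, b} : Set G)).subtype =
    closure ({a, b} : Set G) := by
  haveI := P.model.six.fd
  have hF : Fintype.card F = 4 := by rw [← Nat.card_eq_fintype_card]; exact P.model.four
  obtain ⟨-, -, -, hZ⟩ := four_space_facts hF P.space_four P.space_dim
  obtain ⟨-, hE, hV⟩ := P.pairTwo_facts hψ
  refine le_antisymm ?_ ((closure_le _).2 ?_)
  · rintro _ ⟨z, hz, rfl⟩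
    have h1 : ψ z ∈ center P.space.SIsom := mem_center_iff.2 fun y => by
      obtain ⟨k, rfl⟩ := hψ.1 y
      rw [← map_mul, ← map_mul, mem_center_iff.1 hz k]
    rw [hZ, mem_bot] at h1
    rw [← hV]
    refine mem_inf.2 ⟨hE ▸ ⟨z, h1, rfl⟩, mem_centralizer_iff.2 fun y hy => ?_⟩
    exact congrArg Subtype.val (mem_center_iff.1 hz ⟨y, pairTwo_le P.hb.2.2 hy⟩)
  · intro x hx
    have hmem : x ∈ centralizer ({a, b} : Set G) := by
      rcases hx with rfl | rfl
      exacts [mem_centralizer_pair.2 ⟨Commute.refl x, P.hb.2.2⟩, mem_centralizer_pair.2 ⟨P.hb.2.2.symm, Commute.refl x⟩]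
    refine ⟨⟨x, hmem⟩, mem_center_iff.2 fun k => Subtype.ext ?_, rfl⟩
    have hk := mem_centralizer_pair.1 k.2
    rcases hx with rfl | rfl
    exacts [hk.1.eq, hk.2.eq]

end PairModel

end Cfsg.Lib.ThreeTr
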